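import Groth.Agent.Fib62.InjCokerMain

/-! Elements with no common annihilator on the fibre have none on a neighbourhood, after any base change
(EGA IV 11.10.10, algebra form). -/

set_option autoImplicit false
universe u

open TensorProduct

namespace Groth.Agent.Dominant62

attribute [local instance] Algebra.TensorProduct.rightAlgebra

theorem eq_zero_of_pow_mul {R : Type u} [CommRing R] {m : ℕ} (g : Fin m → R)
    (h : ∀ y, (∀ j, g j * y = 0) → y = 0) (N : ℕ) (t : R) (ht : ∀ j, g j ^ N * t = 0) : t = 0 := by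
  let J := Ideal.span (Set.range g)
  let J' := Ideal.span (Set.range fun j => g j ^ N)
  have hJ : ∀ (k : ℕ) (y : R), (∀ a ∈ J ^ k, a * y = 0) → y = 0 := by
    intro k
    induction k with
    | zero => exact fun y hy => by simpa using hy 1 (by simp)
    | succ k ih =>
      refine fun y hy => ih y fun a ha => h _ fun j => ?_
      rw [← mul_assoc]
      exact hy _ (pow_succ' J k ▸ Ideal.mul_mem_mul (Ideal.subset_span ⟨j, rfl⟩) ha)
  obtain ⟨k, hk⟩ := Ideal.exists_pow_le_of_le_radical_of_fg (I := J) (J := J')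
    (Ideal.span_le.mpr (by rintro _ ⟨j, rfl⟩; exact ⟨N, Ideal.subset_span ⟨j, rfl⟩⟩))
    (Submodule.fg_span (Set.finite_range g))
  refine hJ k t fun a ha => ?_
  have hle : J' ≤ LinearMap.ker (LinearMap.toSpanSingleton R R t) := by
    rw [Ideal.span_le]
    rintro _ ⟨j, rfl⟩
    exact ht j
  exact hle (hk ha)

variable {A B : Type u} [CommRing A] [CommRing B] [Algebra A B] [Algebra.FinitePresentation A B]

/-- The map `c ↦ (g j * c)`. -/
def mulFam {m : ℕ} (g : Fin m → B) : B →ₗ[B] (Fin m → B) := LinearMap.pi fun j => LinearMap.mulLeft B (g j)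

theorem injective_lTensor_mulFam {B : Type u} [CommRing B] (T : Type u) [CommRing T] [Algebra B T] {m : ℕ}
    (g : Fin m → B) (key : ∀ y : T, (∀ j, algebraMap B T (g j) * y = 0) → y = 0) :
    Function.Injective ((mulFam g).lTensor T) := by
  rw [injective_iff_map_eq_zero]
  intro z hz
  refine (TensorProduct.rid B T).injective ?_
  rw [map_zero]
  refine key _ fun j => ?_
  have e1 : ∀ z : T ⊗[B] B, TensorProduct.rid B T ((LinearMap.proj (R := B) (φ := fun _ : Fin m => B) j).lTensor T
      ((mulFam g).lTensor T z)) = algebraMap B T (g j) * TensorProduct.rid B T z := by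
    intro z
    induction z using TensorProduct.induction_on with
    | zero => simp
    | add a b ha hb => simp only [map_add, ha, hb, mul_add]
    | tmul a b => simp [mulFam, Algebra.smul_def]; ring
  rw [← e1, hz, map_zero, map_zero]

theorem exists_injFib (P : PrimeSpectrum B) (G : Set B)
    (hfib : ∀ c : (P.asIdeal.under A).Fiber B,
      (∀ g ∈ G, algebraMap B ((P.asIdeal.under A).Fiber B) g * c = 0) → c = 0) :
    ∃ (m : ℕ) (g : Fin m → B), (∀ j, g j ∈ G) ∧ Fib62.InjFib A (mulFam g) P := by
  classical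
  let F := (P.asIdeal.under A).Fiber B
  let T := Fib62.FibreLocal A P
  have hFn : IsNoetherianRing F := Algebra.FiniteType.isNoetherianRing (P.asIdeal.under A).ResidueField F
  obtain ⟨s, hs, hspan⟩ := (Submodule.fg_span_iff_fg_span_finset_subset (algebraMap B F '' G)).mp
    ((isNoetherianRing_iff_ideal_fg F).mp hFn (Ideal.span (algebraMap B F '' G)))
  choose g₀ hg₀ hgs using fun x : ↥(s : Set F) => hs x.2
  let g : Fin s.card → B := fun j => g₀ (s.equivFin.symm j)
  refine ⟨s.card, g, fun j => hg₀ _, ?_⟩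
  have key : ∀ y : T, (∀ j, algebraMap B T (g j) * y = 0) → y = 0 := by
    intro y hy
    obtain ⟨c, d, rfl⟩ := IsLocalization.exists_mk'_eq (Fib62.fibrePoint (A := A) P).asIdeal.primeCompl y
    have h1 : ∀ j, ∃ e : (Fib62.fibrePoint (A := A) P).asIdeal.primeCompl, (e : F) * (algebraMap B F (g j) * c) = 0 := fun j => by
      have := hy j
      rw [IsScalarTower.algebraMap_apply B F T, IsLocalization.mul_mk'_eq_mk'_of_mul, IsLocalization.mk'_eq_zero_iff] at this
      exact this
    choose e he using h1
    let E : F := ∏ j, (e j : F)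
    have hc : E * c = 0 := by
      refine hfib _ fun x hx => ?_
      have hmem : algebraMap B F x ∈ LinearMap.ker (LinearMap.toSpanSingleton F F (E * c)) := by
        refine (Submodule.span_le.mpr ?_) (hspan ▸ Submodule.subset_span (Set.mem_image_of_mem _ hx))
        intro a ha
        obtain ⟨b, hb⟩ : (e (s.equivFin ⟨a, ha⟩) : F) ∣ E := Finset.dvd_prod_of_mem _ (Finset.mem_univ _)
        have hea : algebraMap B F (g (s.equivFin ⟨a, ha⟩)) = a := by
          show algebraMap B F (g₀ (s.equivFin.symm (s.equivFin ⟨a, ha⟩))) = a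
          rw [Equiv.symm_apply_apply]
          exact hgs ⟨a, ha⟩
        have := he (s.equivFin ⟨a, ha⟩)
        rw [hea] at this
        show a * (E * c) = 0
        rw [hb, show a * ((e (s.equivFin ⟨a, ha⟩) : F) * b * c) = b * ((e (s.equivFin ⟨a, ha⟩) : F) * (a * c)) by ring,
          this, mul_zero]
      exact hmem
    refine (IsLocalization.mk'_eq_zero_iff _ _).mpr
      ⟨⟨E, Submonoid.prod_mem _ fun j _ => (e j).2⟩, hc⟩
  exact injective_lTensor_mulFam T g key

/-- Elements without common annihilator on the fibre have none near `P`, after any base change. -/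
theorem exists_nhd_eq_zero_of_fibre [Module.Flat A B] (P : PrimeSpectrum B) (G : Set B)
    (hfib : ∀ c : (P.asIdeal.under A).Fiber B,
      (∀ g ∈ G, algebraMap B ((P.asIdeal.under A).Fiber B) g * c = 0) → c = 0) :
    ∃ (m : ℕ) (g : Fin m → B), (∀ j, g j ∈ G) ∧ ∃ h ∉ P.asIdeal,
      ∀ (A' : Type u) [CommRing A'] [Algebra A A'] (N : ℕ) (t : A' ⊗[A] Localization.Away h),
        (∀ j, ((1 : A') ⊗ₜ[A] algebraMap B (Localization.Away h) (g j)) ^ N * t = 0) → t = 0 := by
  obtain ⟨m, g, hgG, hinjfib⟩ := exists_injFib P G hfib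
  have : Module.Flat A (Fin m → B) := Module.Flat.of_linearEquiv ((TensorProduct.piScalarRight A B B (Fin m)).restrictScalars A).symm
  obtain ⟨h1, h2⟩ := Fib62.injAt_and_flat_coker_of_injFib_of_flat (A := A) (mulFam g) P hinjfib
  obtain ⟨_, ⟨h₁, rfl⟩, hP₁, hsub⟩ := PrimeSpectrum.isTopologicalBasis_basic_opens.exists_subset_of_mem_open
    (show P ∈ {Q : PrimeSpectrum B | Fib62.InjAt (mulFam g) Q ∧
      Module.Flat A (Localization.AtPrime Q.asIdeal ⊗[B] ((Fin m → B) ⧸ LinearMap.range (mulFam g)))} from ⟨h1, h2⟩)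
    (Fib62.isOpen_injAt_flat_coker (A := A) (mulFam g))
  have : Module.FinitePresentation B ((Fin m → B) ⧸ LinearMap.range (mulFam g)) :=
    Module.finitePresentation_of_surjective _ (Submodule.mkQ_surjective _) (by
      rw [Submodule.ker_mkQ, LinearMap.range_eq_map]; exact Module.Finite.fg_top.map (mulFam g))
  obtain ⟨h₂, hP₂, hQ₂⟩ := Fib62.exists_flat_away (A := A) P h2
  refine ⟨m, g, hgG, h₁ * h₂, fun hm => (P.2.mem_or_mem hm).elim hP₁ hP₂, fun A' _ _ N t ht => ?_⟩
  let C := Localization.Away (h₁ * h₂)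
  have hunit : IsUnit (algebraMap B C h₂) :=
    isUnit_of_mul_isUnit_right ((map_mul (algebraMap B C) h₁ h₂) ▸ IsLocalization.Away.algebraMap_isUnit (h₁ * h₂))
  letI : Algebra (Localization.Away h₂) C := (IsLocalization.Away.lift h₂ hunit).toAlgebra
  have : IsScalarTower B (Localization.Away h₂) C := IsScalarTower.of_algebraMap_eq (R := B) (S := Localization.Away h₂)
    (A := C) fun c => (IsLocalization.Away.lift_eq h₂ _ c).symm
  have : IsScalarTower A (Localization.Away h₂) C := IsScalarTower.to₁₃₄ A B (Localization.Away h₂) C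
  have : Module.Flat (Localization.Away h₂) C := by
    have : Module.Flat B C := IsLocalization.flat C (Submonoid.powers (h₁ * h₂))
    exact (Module.flat_iff_of_isLocalization (Localization.Away h₂) (Submonoid.powers h₂) C).mpr inferInstance
  let Q := (Fin m → B) ⧸ LinearMap.range (mulFam g)
  have hQC : Module.Flat A (C ⊗[B] Q) := by
    have : Module.Flat A (C ⊗[Localization.Away h₂] (Localization.Away h₂ ⊗[B] Q)) := Fib62.flat_tensor
    exact Module.Flat.of_linearEquiv
      ((AlgebraTensorModule.cancelBaseChange B (Localization.Away h₂) C C Q).restrictScalars A).symm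
  let φ : C →ₗ[A] (Fin m → C) := LinearMap.pi fun j => LinearMap.mulLeft A (algebraMap B C (g j))
  let φC : C →ₗ[C] (Fin m → C) := LinearMap.pi fun j => LinearMap.mulLeft C (algebraMap B C (g j))
  have hφ : Function.Injective φ := by
    rw [injective_iff_map_eq_zero]
    intro z hz
    obtain ⟨c, d, rfl⟩ := IsLocalization.exists_mk'_eq (Submonoid.powers (h₁ * h₂)) z
    have h0 : ∀ j, algebraMap B C (g j * c) = 0 := fun j => by
      have := congrFun hz j
      rw [LinearMap.pi_apply, LinearMap.mulLeft_apply] at this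
      rw [map_mul, ← IsLocalization.mk'_spec C c d, ← mul_assoc, this, Pi.zero_apply, zero_mul]
    choose e he using fun j => (IsLocalization.map_eq_zero_iff (Submonoid.powers (h₁ * h₂)) C _).mp (h0 j)
    let E : Submonoid.powers (h₁ * h₂) := ∏ j, e j
    have hEc : mulFam g ((E : B) * c) = 0 := funext fun j => by
      obtain ⟨b, hb⟩ : (e j : B) ∣ (E : B) := by
        rw [Submonoid.coe_finsetProd]
        exact Finset.dvd_prod_of_mem _ (Finset.mem_univ j)
      show g j * ((E : B) * c) = 0
      rw [hb, show g j * ((e j : B) * b * c) = b * ((e j : B) * (g j * c)) by ring, he, mul_zero]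
    by_contra hne
    have hne' : Ideal.span {h₁ * h₂} ≤ Ideal.radical (LinearMap.ker (LinearMap.toSpanSingleton B B ((E : B) * c))) := by
      rw [Ideal.span_le, Set.singleton_subset_iff, SetLike.mem_coe, Ideal.radical_eq_sInf, Submodule.mem_sInf]
      intro (Q' : Ideal B) ⟨hQ', hQp⟩
      by_contra hmem
      obtain ⟨s, hs, hsx⟩ := (hsub (show (⟨Q', hQp⟩ : PrimeSpectrum B) ∈ (PrimeSpectrum.basicOpen h₁ : Set _) from
        fun hh => hmem (Ideal.mul_mem_right _ _ hh))).1 _ hEc
      exact hs (hQ' hsx)
    obtain ⟨k, hk⟩ := hne' (Ideal.mem_span_singleton_self _)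
    refine hne ((IsLocalization.mk'_eq_zero_iff c d).mpr ⟨⟨(h₁ * h₂) ^ k, k, rfl⟩ * E, ?_⟩)
    show (h₁ * h₂) ^ k * (E : B) * c = 0
    rw [mul_assoc]
    exact hk
  have hcoker : Module.Flat A ((Fin m → C) ⧸ LinearMap.range φ) := by
    let e : (C ⊗[B] (Fin m → B)) ≃ₗ[C] (Fin m → C) := TensorProduct.piScalarRight B C C (Fin m)
    have hrange : (LinearMap.range ((mulFam g).baseChange C)).map (e : C ⊗[B] (Fin m → B) →ₗ[C] Fin m → C) =
        LinearMap.range φC := by
      rw [← LinearMap.range_comp]
      have hsq : (e : C ⊗[B] (Fin m → B) →ₗ[C] Fin m → C) ∘ₗ (mulFam g).baseChange C =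
          φC ∘ₗ (AlgebraTensorModule.rid B C C).toLinearMap := by
        apply TensorProduct.AlgebraTensorModule.ext
        intro a b
        funext j
        simp [e, φC, mulFam, Algebra.smul_def, mul_comm, mul_left_comm]
      rw [hsq]
      exact LinearEquiv.range_comp _ _
    have h3 : Module.Flat A ((Fin m → C) ⧸ LinearMap.range φC) :=
      Module.Flat.of_linearEquiv
        ((Submodule.Quotient.equiv _ _ e hrange).symm ≪≫ₗ Fib62.cokerBaseChange (mulFam g) C |>.restrictScalars A)
    have heq : LinearMap.range φ = (LinearMap.range φC).restrictScalars A := by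
      ext y; rfl
    rw [heq]
    exact Module.Flat.of_linearEquiv (Submodule.Quotient.restrictScalarsEquiv A (LinearMap.range φC) |>.restrictScalars A)
  have hinj' := FlatMor68.Pinch.lTensor_injective_of_flat_quotient φ _ hφ (Submodule.mkQ_surjective _)
    (LinearMap.exact_map_mkQ_range φ) (L := A')
  refine eq_zero_of_pow_mul (fun j => (1 : A') ⊗ₜ[A] algebraMap B C (g j)) (fun y hy => hinj' ?_) N t ht
  rw [map_zero]
  refine (TensorProduct.piRight A A A' fun _ : Fin m => C).injective ?_
  rw [map_zero]
  funext j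
  have e2 : ∀ y : A' ⊗[A] C, TensorProduct.piRight A A A' (fun _ : Fin m => C) (φ.lTensor A' y) j =
      ((1 : A') ⊗ₜ[A] algebraMap B C (g j)) * y := by
    intro y
    induction y using TensorProduct.induction_on with
    | zero => simp
    | add a b ha hb => simp only [map_add, Pi.add_apply, ha, hb, mul_add]
    | tmul a b => simp [φ]
  rw [e2, hy, Pi.zero_apply]

end Groth.Agent.Dominant62
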