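import Groth.Agent.Dominant62.Fibres
import Groth.Agent.Dominant62.DenseAlg
import Groth.Prelude.Def_CInt
import Mathlib.AlgebraicGeometry.Morphisms.FinitePresentation

/-! Universal schematic density is fibrewise for flat morphisms locally of finite presentation (EGA IV 11.10.10). -/

set_option autoImplicit false
universe u

open CategoryTheory Limits AlgebraicGeometry TopologicalSpace Opposite TensorProduct

namespace Groth.Agent.Dominant62

theorem app_eq_zero_iff {W Y : Scheme.{u}} (μ : W ⟶ Y) [IsOpenImmersion μ] (R : Y.Opens) (hR : μ.opensRange = R)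
    (V : Y.Opens) (t : Γ(Y, V)) :
    μ.app V t = 0 ↔ Y.presheaf.map (homOfLE (inf_le_left : V ⊓ R ≤ V)).op t = 0 := by
  subst hR
  haveI := μ.isIso_app (V ⊓ μ.opensRange) inf_le_right
  have hpre : μ ⁻¹ᵁ (V ⊓ μ.opensRange) = μ ⁻¹ᵁ V := by
    ext z
    exact ⟨fun h => h.1, fun h => ⟨h, ⟨z, rfl⟩⟩⟩
  have key := congrArg (fun m => m t)
    (congrArg DFunLike.coe (congrArg CommRingCat.Hom.hom (μ.naturality (homOfLE (inf_le_left : V ⊓ μ.opensRange ≤ V)).op)))
  constructor
  · intro h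
    refine (ConcreteCategory.bijective_of_isIso (μ.app (V ⊓ μ.opensRange))).1 ?_
    rw [map_zero]
    refine key.trans ?_
    show (W.presheaf.map _) ((μ.app V) t) = 0
    rw [h, map_zero]
  · intro h
    have e : (W.presheaf.map ((Opens.map μ.base).map (homOfLE (inf_le_left : V ⊓ μ.opensRange ≤ V)).op.unop).op)
        ((μ.app V) t) = 0 := by
      refine key.symm.trans ?_
      show (μ.app _) ((Y.presheaf.map _) t) = 0
      rw [h, map_zero]
    haveI : IsIso ((Opens.map μ.base).map (homOfLE (inf_le_left : V ⊓ μ.opensRange ≤ V)).op.unop) :=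
      ⟨homOfLE hpre.ge, Subsingleton.elim _ _, Subsingleton.elim _ _⟩
    exact (ConcreteCategory.bijective_of_isIso _).1 (e.trans (map_zero _).symm)

theorem schDomAfter_opens_iff {X S S' : Scheme.{u}} (p : X ⟶ S) (U : X.Opens) (g : S' ⟶ S) :
    SchDomAfter p (fun _ : PUnit.{u+1} => U.ι) g ↔ CInt.IsSchematicallyDense (pullback.fst p g ⁻¹ᵁ U) := by
  let μ : pullback (U.ι ≫ p) g ⟶ pullback p g := pullback.map (U.ι ≫ p) g p g U.ι (𝟙 S') (𝟙 S) (Category.comp_id _)
    ((Category.comp_id _).trans (Category.id_comp _).symm)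
  haveI : IsOpenImmersion μ := by
    haveI : IsOpenImmersion (𝟙 S') := IsOpenImmersion.of_isIso _
    exact Scheme.pullback_map_isOpenImmersion _ _ _ _ _ _ _ _ _
  have hR : μ.opensRange = pullback.fst p g ⁻¹ᵁ U := by
    apply TopologicalSpace.Opens.ext
    show Set.range μ = _
    rw [Scheme.Pullback.range_map]
    ext z
    simp
  constructor
  · intro h V
    rw [injective_iff_map_eq_zero]
    intro t ht
    exact h V t fun _ => (app_eq_zero_iff μ _ hR V t).mpr ht
  · intro h V t ht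
    exact (injective_iff_map_eq_zero _).mp (h V) t ((app_eq_zero_iff μ _ hR V t).mp (ht ⟨⟩))

/-- An element killed in `A' ⊗ C_g` is killed by a power of `1 ⊗ g`. -/
theorem exists_pow_mul_eq_zero {A A' B : Type u} [CommRing A] [CommRing A'] [CommRing B] [Algebra A A'] [Algebra A B]
    (g : B) (C : Type u) [CommRing C] [Algebra B C] [Algebra A C] [IsScalarTower A B C] [IsLocalization.Away g C]
    (z : A' ⊗[A] B)
    (hz : Algebra.TensorProduct.map (AlgHom.id A A') (IsScalarTower.toAlgHom A B C) z = 0) :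
    ∃ M : ℕ, ((1 : A') ⊗ₜ[A] g) ^ M * z = 0 := by
  have e : ∀ y : A' ⊗[A] B, AlgebraTensorModule.cancelBaseChange A B B C A'
      (TensorProduct.mk B C (B ⊗[A] A') 1 (TensorProduct.comm A A' B y)) =
      TensorProduct.comm A A' C (Algebra.TensorProduct.map (AlgHom.id A A') (IsScalarTower.toAlgHom A B C) y) := by
    intro y
    induction y using TensorProduct.induction_on with
    | zero => simp
    | add a b ha hb => simp only [map_add, ha, hb]
    | tmul a b => simp [Algebra.smul_def]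
  have h0 : TensorProduct.mk B C (B ⊗[A] A') 1 (TensorProduct.comm A A' B z) = 0 :=
    (AlgebraTensorModule.cancelBaseChange A B B C A').injective (by rw [e, hz, map_zero, map_zero])
  obtain ⟨⟨_, M, rfl⟩, hM⟩ := (IsLocalizedModule.eq_zero_iff (Submonoid.powers g) (TensorProduct.mk B C (B ⊗[A] A') 1)).mp h0
  refine ⟨M, (TensorProduct.comm A A' B).injective ?_⟩
  have e2 : ∀ y : A' ⊗[A] B, TensorProduct.comm A A' B (((1 : A') ⊗ₜ[A] g) ^ M * y) =
      g ^ M • TensorProduct.comm A A' B y := by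
    intro y
    induction y using TensorProduct.induction_on with
    | zero => simp
    | add a b ha hb => simp only [mul_add, map_add, ha, hb, smul_add]
    | tmul a b => simp [Algebra.TensorProduct.tmul_pow, TensorProduct.smul_tmul']
  rw [e2, map_zero]
  exact hM

attribute [local instance] Algebra.TensorProduct.rightAlgebra in
theorem isSchematicallyDense_of_fibres {X S : Scheme.{u}} (f : X ⟶ S) [Flat f] [LocallyOfFinitePresentation f]
    (U : X.Opens) (h : ∀ s : S, CInt.IsSchematicallyDense ((f.fiberι s) ⁻¹ᵁ U))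
    (S' : Scheme.{u}) (g : S' ⟶ S) : CInt.IsSchematicallyDense (pullback.fst f g ⁻¹ᵁ U) := by
  classical
  rw [← schDomAfter_opens_iff]
  intro V t ht
  refine TopCat.Presheaf.section_ext (pullback f g).sheaf _ _ 0 fun x' hx' => ?_
  show (pullback f g).presheaf.germ _ x' hx' t = (pullback f g).presheaf.germ _ x' hx' 0
  rw [map_zero]
  obtain ⟨U₀, hU₀, hs, -⟩ := exists_isAffineOpen_mem_and_subset (X := S) (x := g (pullback.snd f g x')) (U := ⊤) trivial
  obtain ⟨W, hW, hxW, eW⟩ := exists_isAffineOpen_mem_and_subset (X := S') (x := pullback.snd f g x') (U := g ⁻¹ᵁ U₀) hs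
  have hx0 : f (pullback.fst f g x') ∈ U₀ := by
    rw [← Scheme.Hom.comp_apply, pullback.condition, Scheme.Hom.comp_apply]
    exact hs
  obtain ⟨Ω, hΩ, hxΩ, eΩ⟩ := exists_isAffineOpen_mem_and_subset (X := X) (x := pullback.fst f g x') (U := f ⁻¹ᵁ U₀) hx0
  letI : Algebra Γ(S, U₀) Γ(X, Ω) := (f.appLE U₀ Ω eΩ).hom.toAlgebra
  letI : Algebra Γ(S, U₀) Γ(S', W) := (g.appLE U₀ W eW).hom.toAlgebra
  haveI : Algebra.FinitePresentation Γ(S, U₀) Γ(X, Ω) := f.finitePresentation_appLE hU₀ hΩ eΩ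
  haveI : Module.Flat Γ(S, U₀) Γ(X, Ω) := f.flat_appLE hU₀ hΩ eΩ
  have hB : Spec.map (CommRingCat.ofHom (algebraMap Γ(S, U₀) Γ(X, Ω))) ≫ hU₀.fromSpec = hΩ.fromSpec ≫ f :=
    hU₀.SpecMap_appLE_fromSpec f hΩ eΩ
  obtain ⟨P, hP⟩ := show pullback.fst f g x' ∈ Set.range hΩ.fromSpec from hΩ.range_fromSpec.symm ▸ hxΩ
  let G : Set Γ(X, Ω) := {b | X.basicOpen b ≤ U}
  haveI : P.asIdeal.IsPrime := P.isPrime
  -- the fibre
  have hfib : ∀ c : (P.asIdeal.under Γ(S, U₀)).Fiber Γ(X, Ω),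
      (∀ b ∈ G, algebraMap Γ(X, Ω) ((P.asIdeal.under Γ(S, U₀)).Fiber Γ(X, Ω)) b * c = 0) → c = 0 := by
    intro c hc
    let p := P.asIdeal.under Γ(S, U₀)
    let K : PUnit.{u+1} → Type u := fun _ => G
    let C : (Σ i, K i) → Type u := fun k => Localization.Away k.2.1
    have heC : ∀ k : Σ i, K i, Set.range (Spec.map (CommRingCat.ofHom (algebraMap Γ(X, Ω) (C k))) ≫ hΩ.fromSpec) ⊆
        Set.range U.ι := by
      rintro k _ ⟨z, rfl⟩
      rw [Scheme.Opens.range_ι]
      refine k.2.2 ?_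
      have hz := (mem_range_specMap_away k.2.1 _).mp ⟨z, rfl⟩
      rw [Scheme.Hom.comp_apply, ← SetLike.mem_coe]
      have : Spec.map (CommRingCat.ofHom (algebraMap Γ(X, Ω) (C k))) z ∈ hΩ.fromSpec ⁻¹ᵁ X.basicOpen k.2.1 := by
        rw [hΩ.fromSpec_preimage_basicOpen]
        exact hz
      exact this
    haveI : ∀ k : Σ i, K i, IsOpenImmersion (Spec.map (CommRingCat.ofHom (algebraMap Γ(X, Ω) (C k)))) := fun k =>
      IsOpenImmersion.of_isLocalization k.2.1
    let eC : ∀ k : Σ i, K i, Spec (CommRingCat.of (C k)) ⟶ (U : Scheme.{u}) :=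
      fun k => IsOpenImmersion.lift U.ι _ (heC k)
    haveI : ∀ k, IsOpenImmersion (eC k) := fun k => by
      haveI : IsOpenImmersion (eC k ≫ U.ι) := by rw [IsOpenImmersion.lift_fac]; infer_instance
      exact IsOpenImmersion.of_comp (eC k) U.ι
    let ψ : ∀ k : Σ i, K i, Γ(X, Ω) →ₐ[Γ(S, U₀)] C k := fun k => IsScalarTower.toAlgHom _ _ _
    have hψ : ∀ k, Spec.map (CommRingCat.ofHom (ψ k).toRingHom) ≫ hΩ.fromSpec = eC k ≫ U.ι := fun k =>
      (IsOpenImmersion.lift_fac U.ι _ (heC k)).symm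
    have hcover : ∀ (i : PUnit.{u+1}) (z : ↥(U : Scheme.{u})), U.ι z ∈ Set.range hΩ.fromSpec →
        ∃ k : K i, z ∈ Set.range (eC ⟨i, k⟩) := by
      intro i z hz
      obtain ⟨q, hq⟩ := hz
      obtain ⟨_, ⟨b, rfl⟩, hqb, hb⟩ := PrimeSpectrum.isTopologicalBasis_basic_opens.exists_subset_of_mem_open
        (show q ∈ (hΩ.fromSpec ⁻¹ᵁ U : Set (Spec Γ(X, Ω))) from by show hΩ.fromSpec q ∈ U; rw [hq]; exact z.2)
        (hΩ.fromSpec ⁻¹ᵁ U).2
      have hbG : b ∈ G := by
        show X.basicOpen b ≤ U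
        intro y hy
        obtain ⟨q', rfl⟩ := show y ∈ Set.range hΩ.fromSpec from hΩ.range_fromSpec.symm ▸ X.basicOpen_le b hy
        refine hb ?_
        have : q' ∈ hΩ.fromSpec ⁻¹ᵁ X.basicOpen b := hy
        rw [hΩ.fromSpec_preimage_basicOpen] at this
        exact this
      obtain ⟨w, hw⟩ := (mem_range_specMap_away b q).mpr hqb
      refine ⟨⟨b, hbG⟩, w, U.ι.isOpenEmbedding.injective ?_⟩
      rw [← Scheme.Hom.comp_apply, IsOpenImmersion.lift_fac, Scheme.Hom.comp_apply]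
      exact (congrArg hΩ.fromSpec hw).trans hq
    -- the residue field of the base
    let g₀ : Spec (CommRingCat.of p.ResidueField) ⟶ S :=
      Spec.map (CommRingCat.ofHom (algebraMap Γ(S, U₀) p.ResidueField)) ≫ hU₀.fromSpec
    obtain ⟨⟨s, φ⟩, hφ⟩ := (Scheme.SpecToEquivOfField p.ResidueField S).symm.surjective g₀
    change Spec.map φ ≫ S.fromSpecResidueField s = g₀ at hφ
    have hsU : s ∈ U₀ := by
      have h1 : g₀ (IsLocalRing.closedPoint p.ResidueField) ∈ U₀ := by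
        show hU₀.fromSpec _ ∈ U₀
        exact hU₀.range_fromSpec.le ⟨_, rfl⟩
      rw [← hφ] at h1
      erw [Scheme.Hom.comp_apply, Scheme.fromSpecResidueField_apply] at h1
      exact h1
    let α : Γ(S, U₀) ⟶ S.residueField s := S.presheaf.germ U₀ s hsU ≫ S.residue s
    have hα : Spec.map α ≫ hU₀.fromSpec = S.fromSpecResidueField s := by
      rw [Spec.map_comp, Category.assoc]
      exact congrArg (Spec.map (S.residue s) ≫ ·) (hU₀.fromSpecStalk_eq_fromSpecStalk hsU)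
    have hαφ : α ≫ φ = CommRingCat.ofHom (algebraMap Γ(S, U₀) p.ResidueField) := by
      apply Spec.map_injective
      rw [← cancel_mono hU₀.fromSpec, Spec.map_comp, Category.assoc, hα]
      exact hφ
    letI : Algebra Γ(S, U₀) (IsLocalRing.ResidueField (S.presheaf.stalk s)) := α.hom.toAlgebra
    letI : Algebra (IsLocalRing.ResidueField (S.presheaf.stalk s)) p.ResidueField := φ.hom.toAlgebra
    haveI : IsScalarTower Γ(S, U₀) (IsLocalRing.ResidueField (S.presheaf.stalk s)) p.ResidueField :=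
      IsScalarTower.of_algebraMap_eq' (congrArg CommRingCat.Hom.hom hαφ).symm
    have hdom : DomAt Γ(S, U₀) ψ p.ResidueField := by
      refine DomAt.of_field ψ (IsLocalRing.ResidueField (S.presheaf.stalk s)) ?_ p.ResidueField
      exact domAt_of_schDomAfter_spec (g := S.fromSpecResidueField s) (f := fun _ : PUnit.{u+1} => U.ι)
        (eC := eC) hB hα hψ hcover ((schDomAfter_opens_iff f U _).mpr (h s))
    obtain ⟨n, hn⟩ := hdom 1 c fun k => by
      refine ⟨0, ?_⟩
      rw [pow_zero, one_mul]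
      let T := Algebra.TensorProduct.map (AlgHom.id Γ(S, U₀) p.ResidueField) (ψ k)
      show T c = 0
      have h1 : ((1 : p.ResidueField) ⊗ₜ[Γ(S, U₀)] k.2.1) * c = 0 := hc _ k.2.2
      have h2 : IsUnit (T ((1 : p.ResidueField) ⊗ₜ k.2.1)) := by
        rw [Algebra.TensorProduct.map_tmul]
        exact (IsLocalization.Away.algebraMap_isUnit k.2.1).map
          (Algebra.TensorProduct.includeRight : C k →ₐ[Γ(S, U₀)] p.ResidueField ⊗[Γ(S, U₀)] C k)
      have h3 := congrArg T h1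
      rw [map_mul, map_zero] at h3
      exact h2.mul_right_eq_zero.mp h3
    simpa using hn
  obtain ⟨m, gen, hgG, h', hP', hkey⟩ := exists_nhd_eq_zero_of_fibre (A := Γ(S, U₀)) P G hfib
  -- the chart
  let B' := Localization.Away h'
  haveI : IsOpenImmersion (Spec.map (CommRingCat.ofHom (algebraMap Γ(X, Ω) B'))) := IsOpenImmersion.of_isLocalization h'
  let e : Spec (CommRingCat.of B') ⟶ X := Spec.map (CommRingCat.ofHom (algebraMap Γ(X, Ω) B')) ≫ hΩ.fromSpec
  have hB' : Spec.map (CommRingCat.ofHom (algebraMap Γ(S, U₀) B')) ≫ hU₀.fromSpec = e ≫ f := by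
    rw [IsScalarTower.algebraMap_eq Γ(S, U₀) Γ(X, Ω) B', CommRingCat.ofHom_comp, Spec.map_comp, Category.assoc, hB,
      Category.assoc]
  let K : PUnit.{u+1} → Type u := fun _ => ULift.{u} (Fin m)
  let gk : (Σ i, K i) → B' := fun k => algebraMap Γ(X, Ω) B' (gen k.2.down)
  let C : (Σ i, K i) → Type u := fun k => Localization.Away (gk k)
  haveI : ∀ k : Σ i, K i, IsOpenImmersion (Spec.map (CommRingCat.ofHom (algebraMap B' (C k)))) := fun k =>
    IsOpenImmersion.of_isLocalization (gk k)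
  have heC : ∀ k : Σ i, K i, Set.range (Spec.map (CommRingCat.ofHom (algebraMap B' (C k))) ≫ e) ⊆ Set.range U.ι := by
    rintro k _ ⟨z, rfl⟩
    rw [Scheme.Opens.range_ι]
    refine hgG k.2.down ?_
    have hz := (mem_range_specMap_away (gk k) _).mp ⟨z, rfl⟩
    rw [Scheme.Hom.comp_apply, Scheme.Hom.comp_apply]
    have : Spec.map (CommRingCat.ofHom (algebraMap Γ(X, Ω) B')) (Spec.map (CommRingCat.ofHom (algebraMap B' (C k))) z) ∈
        hΩ.fromSpec ⁻¹ᵁ X.basicOpen (gen k.2.down) := by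
      rw [hΩ.fromSpec_preimage_basicOpen]
      exact hz
    exact this
  let eC : ∀ k : Σ i, K i, Spec (CommRingCat.of (C k)) ⟶ (U : Scheme.{u}) := fun k => IsOpenImmersion.lift U.ι _ (heC k)
  let ψ : ∀ k : Σ i, K i, B' →ₐ[Γ(S, U₀)] C k := fun k => IsScalarTower.toAlgHom _ _ _
  have hψ : ∀ k, Spec.map (CommRingCat.ofHom (ψ k).toRingHom) ≫ e = eC k ≫ U.ι := fun k =>
    (IsOpenImmersion.lift_fac U.ι _ (heC k)).symm
  have hdom : DomAt Γ(S, U₀) ψ Γ(S', W) := by
    intro b y hy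
    have hpow : ∀ j : Fin m, ∃ M n : ℕ, ((1 : Γ(S', W)) ⊗ₜ[Γ(S, U₀)] algebraMap Γ(X, Ω) B' (gen j)) ^ M * (b ^ n * y) = 0 := by
      intro j
      obtain ⟨n, hn⟩ := hy ⟨⟨⟩, ⟨j⟩⟩
      obtain ⟨M, hM⟩ := exists_pow_mul_eq_zero (gk ⟨⟨⟩, ⟨j⟩⟩) (C ⟨⟨⟩, ⟨j⟩⟩) _ hn
      exact ⟨M, n, hM⟩
    choose M n hMn using hpow
    refine ⟨Finset.univ.sup n, hkey Γ(S', W) (Finset.univ.sup M) _ fun j => ?_⟩
    obtain ⟨a, ha⟩ := Nat.exists_eq_add_of_le (Finset.le_sup (f := n) (Finset.mem_univ j))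
    obtain ⟨c, hc⟩ := Nat.exists_eq_add_of_le (Finset.le_sup (f := M) (Finset.mem_univ j))
    rw [ha, hc, pow_add, pow_add]
    calc _ = ((1 : Γ(S', W)) ⊗ₜ[Γ(S, U₀)] algebraMap Γ(X, Ω) B' (gen j)) ^ c * b ^ a *
          (((1 : Γ(S', W)) ⊗ₜ[Γ(S, U₀)] algebraMap Γ(X, Ω) B' (gen j)) ^ M j * (b ^ n j * y)) := by ring
      _ = 0 := by rw [hMn, mul_zero]
  haveI : ∀ k, IsOpenImmersion (eC k) := fun k => by
    haveI : IsOpenImmersion (eC k ≫ U.ι) := by rw [IsOpenImmersion.lift_fac]; infer_instance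
    exact IsOpenImmersion.of_comp (eC k) U.ι
  obtain ⟨w, hw⟩ := (mem_range_specMap_away h' P).mpr hP'
  refine germ_eq_zero_of_domAt (f := fun _ : PUnit.{u+1} => U.ι) (eC := eC) hB'
    (hU₀.SpecMap_appLE_fromSpec g hW eW) hψ hdom V t ht x' hx' ⟨w, ?_⟩ (hW.range_fromSpec.symm ▸ hxW)
  rw [Scheme.Hom.comp_apply]
  exact (congrArg hΩ.fromSpec hw).trans hP

end Groth.Agent.Dominant62
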