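import Groth.Agent.Dominant62.FlatDominant
import Mathlib.AlgebraicGeometry.Morphisms.Flat
import Mathlib.AlgebraicGeometry.Morphisms.FinitePresentation
import Mathlib.AlgebraicGeometry.Pullbacks

/-! Schematically dominant families stay so after flat base change of finite presentation. -/

set_option autoImplicit false
universe u

open CategoryTheory Limits AlgebraicGeometry TopologicalSpace Opposite TensorProduct

namespace Groth.Agent.Dominant62

/-- A section killed by a morphism from an affine scheme factoring through an affine open. -/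
theorem map_eq_zero_of_fromSpec {X : Scheme.{u}} {W V : X.Opens} (hW : IsAffineOpen W) (hWV : W ≤ V)
    {D : CommRingCat.{u}} (φ : Γ(X, W) ⟶ D) (t : Γ(X, V)) (h : (Spec.map φ ≫ hW.fromSpec).app V t = 0) :
    φ (X.presheaf.map (homOfLE hWV).op t) = 0 := by
  replace h : (Spec.map φ).app _ (hW.fromSpec.app V t) = 0 := h
  rw [hW.fromSpec_app_of_le V hWV, ConcreteCategory.comp_apply, ConcreteCategory.comp_apply] at h
  set z := X.presheaf.map (homOfLE hWV).op t
  have htop : hW.fromSpec ⁻¹ᵁ V = ⊤ := top_le_iff.mp (hW.fromSpec_preimage_self.ge.trans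
    ((Opens.map hW.fromSpec.base).map (homOfLE hWV)).le)
  have htop' : Spec.map φ ⁻¹ᵁ (hW.fromSpec ⁻¹ᵁ V) = ⊤ := by rw [htop]; rfl
  have key : ((Spec Γ(X, W)).presheaf.map (homOfLE (le_top : hW.fromSpec ⁻¹ᵁ V ≤ ⊤)).op ≫
      (Spec.map φ).app (hW.fromSpec ⁻¹ᵁ V)) ≫ (Spec D).presheaf.map (eqToHom htop'.symm).op =
      (Spec.map φ).appTop := by
    rw [(Spec.map φ).naturality, Category.assoc, ← Functor.map_comp, Scheme.Hom.appTop]
    exact (congrArg (_ ≫ ·) ((congrArg _ (Subsingleton.elim _ (𝟙 _))).trans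
      ((Spec D).presheaf.map_id _))).trans (Category.comp_id _)
  have h2 : (Spec.map φ).appTop ((Scheme.ΓSpecIso Γ(X, W)).inv z) = 0 := by
    rw [← key, ConcreteCategory.comp_apply, ConcreteCategory.comp_apply, h, map_zero]
  have h3 := congrArg (Scheme.ΓSpecIso D).hom h2
  rw [map_zero, ← ConcreteCategory.comp_apply, ← ConcreteCategory.comp_apply,
    Scheme.ΓSpecIso_naturality, Iso.inv_hom_id_assoc] at h3
  exact h3

/-- Flat base change of finite presentation preserves schematic dominance. -/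
theorem app_eq_zero_of_flat {X X' : Scheme.{u}} {ι : Type u} (Z : ι → Scheme.{u})
    (f : ∀ i, Z i ⟶ X) (g : X' ⟶ X) [Flat g] [LocallyOfFinitePresentation g]
    (h : ∀ (V : X.Opens) (t : Γ(X, V)), (∀ i, (f i).app V t = 0) → t = 0)
    (V : X'.Opens) (t : Γ(X', V)) (ht : ∀ i, (pullback.snd (f i) g).app V t = 0) : t = 0 := by
  refine TopCat.Presheaf.section_ext X'.sheaf V t 0 fun x' hx' => ?_
  show X'.presheaf.germ V x' hx' t = X'.presheaf.germ V x' hx' 0
  obtain ⟨U, hU, hxU, -⟩ := exists_isAffineOpen_mem_and_subset (X := X) (x := g x') (U := ⊤) trivial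
  obtain ⟨W, hW, hxW, hWsub⟩ := exists_isAffineOpen_mem_and_subset (X := X') (x := x') (U := V ⊓ g ⁻¹ᵁ U) ⟨hx', hxU⟩
  have hWV : W ≤ V := fun y hy => (hWsub hy).1
  have e : W ≤ g ⁻¹ᵁ U := fun y hy => (hWsub hy).2
  letI : Algebra Γ(X, U) Γ(X', W) := (g.appLE U W e).hom.toAlgebra
  haveI : Algebra.FinitePresentation Γ(X, U) Γ(X', W) := g.finitePresentation_appLE hU hW e
  haveI : Module.Flat Γ(X, U) Γ(X', W) := g.flat_appLE hU hW e
  let κ := (i : ι) × {O : (Z i).affineOpens // O.1 ≤ f i ⁻¹ᵁ U}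
  let C : κ → Type u := fun k => Γ(Z k.1, k.2.1.1)
  letI : ∀ k, Algebra Γ(X, U) (C k) := fun k => ((f k.1).appLE U k.2.1.1 k.2.2).hom.toAlgebra
  let z := X'.presheaf.map (homOfLE hWV).op t
  suffices hz : z = 0 by
    rw [map_zero, ← X'.presheaf.germ_res_apply (homOfLE hWV) x' hxW]
    exact (congrArg _ hz).trans (map_zero _)
  refine eq_zero_of_flat (fun k => Algebra.linearMap Γ(X, U) (C k)) (fun b x hbx => ?_) z fun k => ?_
  · -- dominance on basic opens
    haveI := hU.isLocalization_basicOpen b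
    have h0 : X.presheaf.map (homOfLE (X.basicOpen_le b)).op x = 0 := by
      refine h _ _ fun i => ?_
      refine TopCat.Presheaf.section_ext (Z i).sheaf _ _ 0 fun y hy => ?_
      show (Z i).presheaf.germ _ y hy _ = (Z i).presheaf.germ _ y hy 0
      have hyU : f i y ∈ U := X.basicOpen_le b hy
      obtain ⟨O, hO, hyO, hOsub⟩ := exists_isAffineOpen_mem_and_subset (X := Z i) (x := y) (U := f i ⁻¹ᵁ U) hyU
      obtain ⟨n, hn⟩ := hbx ⟨i, ⟨⟨O, hO⟩, hOsub⟩⟩
      rw [Algebra.linearMap_apply, Algebra.smul_def, ← map_mul] at hn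
      have hn' : ((f i).appLE U O hOsub) (b ^ n * x) = 0 := hn
      rw [map_zero]
      have hg : (Z i).presheaf.germ (f i ⁻¹ᵁ X.basicOpen b) y hy
          ((f i).app (X.basicOpen b) (X.presheaf.map (homOfLE (X.basicOpen_le b)).op x)) =
          (f i).stalkMap y (X.presheaf.germ U (f i y) hyU x) := by
        rw [← X.presheaf.germ_res_apply (homOfLE (X.basicOpen_le b)) (f i y) hy x]
        exact (Scheme.Hom.germ_stalkMap_apply (f i) (X.basicOpen b) y hy _).symm
      refine hg.trans ?_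
      have hO0 : (f i).stalkMap y (X.presheaf.germ U (f i y) hyU (b ^ n * x)) = 0 := by
        rw [Scheme.Hom.germ_stalkMap_apply, ← (Z i).presheaf.germ_res_apply (homOfLE hOsub) y hyO,
          ← ConcreteCategory.comp_apply ((f i).app U)]
        show (Z i).presheaf.germ O y hyO (((f i).appLE U O hOsub) (b ^ n * x)) = 0
        rw [hn', map_zero]
      rw [map_mul, map_mul, map_pow, map_pow] at hO0
      exact ((((Scheme.mem_basicOpen X b (f i y) hyU).mp hy).map ((f i).stalkMap y).hom).pow n).mul_right_eq_zero.mp hO0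
    obtain ⟨⟨_, n, rfl⟩, hn⟩ := (IsLocalization.map_eq_zero_iff (Submonoid.powers b) Γ(X, X.basicOpen b) x).mp h0
    exact ⟨n, hn⟩
  · -- the section is killed
    obtain ⟨i, ⟨O, hO⟩, hOU⟩ := k
    letI : Algebra Γ(X, U) Γ(Z i, O) := ((f i).appLE U O hOU).hom.toAlgebra
    show algebraMap Γ(X, U) Γ(Z i, O) 1 ⊗ₜ[Γ(X, U)] z = 0
    rw [map_one]
    let l : Γ(Z i, O) ⟶ CommRingCat.of (Γ(Z i, O) ⊗[Γ(X, U)] Γ(X', W)) :=
      CommRingCat.ofHom Algebra.TensorProduct.includeLeftRingHom
    let r : Γ(X', W) ⟶ CommRingCat.of (Γ(Z i, O) ⊗[Γ(X, U)] Γ(X', W)) :=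
      CommRingCat.ofHom Algebra.TensorProduct.includeRight.toRingHom
    have hlr : (f i).appLE U O hOU ≫ l = g.appLE U W e ≫ r := by
      ext b
      exact ((Algebra.TensorProduct.includeLeft : Γ(Z i, O) →ₐ[Γ(X, U)] _).commutes b).trans
        ((Algebra.TensorProduct.includeRight : Γ(X', W) →ₐ[Γ(X, U)] Γ(Z i, O) ⊗[Γ(X, U)] Γ(X', W)).commutes b).symm
    have hcomm : (Spec.map l ≫ hO.fromSpec) ≫ f i = (Spec.map r ≫ hW.fromSpec) ≫ g := by
      rw [Category.assoc, Category.assoc, ← hU.SpecMap_appLE_fromSpec (f i) hO hOU,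
        ← hU.SpecMap_appLE_fromSpec g hW e, ← Category.assoc, ← Category.assoc, ← Spec.map_comp, ← Spec.map_comp, hlr]
    have key : ∀ m : Spec (CommRingCat.of (Γ(Z i, O) ⊗[Γ(X, U)] Γ(X', W))) ⟶ X',
        m = pullback.lift _ _ hcomm ≫ pullback.snd (f i) g → m.app V t = 0 := by
      rintro m rfl
      show (pullback.lift _ _ hcomm).app _ ((pullback.snd (f i) g).app V t) = 0
      rw [ht, map_zero]
    exact map_eq_zero_of_fromSpec hW hWV r t (key _ (pullback.lift_snd _ _ hcomm).symm)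

end Groth.Agent.Dominant62
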