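import Mathlib.AlgebraicGeometry.PullbackCarrier
import Mathlib.AlgebraicGeometry.AffineScheme
import Mathlib.RingTheory.TensorProduct.Basic

/-! Affine charts of fibre products and values of sections along morphisms from affine schemes. -/

set_option autoImplicit false
universe u

open CategoryTheory Limits AlgebraicGeometry TopologicalSpace Opposite TensorProduct

namespace Groth.Agent.Dominant62

/-- The value of a section along a morphism from an affine scheme. -/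
noncomputable def secVal {R : CommRingCat.{u}} {Y : Scheme.{u}} (σ : Spec R ⟶ Y) (V : Y.Opens) (hσ : ⊤ ≤ σ ⁻¹ᵁ V)
    (t : Γ(Y, V)) : R :=
  (Scheme.ΓSpecIso R).hom (σ.appLE V ⊤ hσ t)

theorem secVal_zero {R : CommRingCat.{u}} {Y : Scheme.{u}} (σ : Spec R ⟶ Y) (V : Y.Opens) (hσ : ⊤ ≤ σ ⁻¹ᵁ V) :
    secVal σ V hσ 0 = 0 := by
  rw [secVal, map_zero, map_zero]

theorem secVal_specMap {R R' : CommRingCat.{u}} {Y : Scheme.{u}} (φ : R ⟶ R') (σ : Spec R ⟶ Y) (V : Y.Opens)
    (hσ : ⊤ ≤ σ ⁻¹ᵁ V) (hσ' : ⊤ ≤ (Spec.map φ ≫ σ) ⁻¹ᵁ V) (t : Γ(Y, V)) :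
    secVal (Spec.map φ ≫ σ) V hσ' t = φ (secVal σ V hσ t) := by
  have h : (Spec.map φ ≫ σ).appLE V ⊤ hσ' = σ.appLE V ⊤ hσ ≫ (Spec.map φ).appTop := by
    rw [Scheme.Hom.appTop, Scheme.Hom.app_eq_appLE]
    exact (Scheme.Hom.appLE_comp_appLE _ _ _ _ _ hσ (le_refl _)).symm
  unfold secVal
  rw [h, ConcreteCategory.comp_apply, ← ConcreteCategory.comp_apply (Spec.map φ).appTop, Scheme.ΓSpecIso_naturality φ,
    ConcreteCategory.comp_apply]

theorem secVal_comp {R : CommRingCat.{u}} {Y Y' : Scheme.{u}} (σ : Spec R ⟶ Y') (μ : Y' ⟶ Y) (V : Y.Opens)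
    (hσ : ⊤ ≤ (σ ≫ μ) ⁻¹ᵁ V) (t : Γ(Y, V)) :
    secVal (σ ≫ μ) V hσ t = secVal σ (μ ⁻¹ᵁ V) hσ (μ.app V t) := by
  unfold secVal
  rw [Scheme.Hom.comp_appLE, ConcreteCategory.comp_apply]

/-- A section with value zero along an open immersion vanishes at its points. -/
theorem germ_eq_zero_of_secVal {R : CommRingCat.{u}} {Y : Scheme.{u}} (σ : Spec R ⟶ Y) [IsOpenImmersion σ]
    (V : Y.Opens) (hσ : ⊤ ≤ σ ⁻¹ᵁ V) (t : Γ(Y, V)) (h : secVal σ V hσ t = 0) (q : Spec R) :
    Y.presheaf.germ V (σ q) (hσ (show q ∈ (⊤ : (Spec R).Opens) from trivial)) t = 0 := by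
  have h1 : σ.appLE V ⊤ hσ t = 0 :=
    (Scheme.ΓSpecIso R).commRingCatIsoToRingEquiv.injective (h.trans (map_zero _).symm)
  refine (ConcreteCategory.bijective_of_isIso (σ.stalkMap q)).1 ?_
  have hq : q ∈ σ ⁻¹ᵁ V := hσ trivial
  rw [map_zero]
  refine (Scheme.Hom.germ_stalkMap_apply σ V q hq t).trans ?_
  rw [
    ← (Spec R).presheaf.germ_res_apply (homOfLE hσ) q (show q ∈ (⊤ : (Spec R).Opens) from trivial),
    ← ConcreteCategory.comp_apply (σ.app V)]
  show (Spec R).presheaf.germ ⊤ q _ (σ.appLE V ⊤ hσ t) = 0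
  rw [h1, map_zero]

/-- Every element is the value of a section on the image of an open immersion. -/
theorem exists_secVal_eq {R : CommRingCat.{u}} {Y : Scheme.{u}} (σ : Spec R ⟶ Y) [IsOpenImmersion σ] (r : R) :
    ∃ t : Γ(Y, σ ''ᵁ ⊤), secVal σ (σ ''ᵁ ⊤) (σ.preimage_image_eq ⊤).ge t = r := by
  refine ⟨(σ.appIso ⊤).inv ((Scheme.ΓSpecIso R).inv r), ?_⟩
  rw [secVal, ← ConcreteCategory.comp_apply (σ.appIso ⊤).inv, Scheme.Hom.appIso_inv_appLE]
  have e : ((Spec R).presheaf.map (homOfLE (le_refl (⊤ : (Spec R).Opens))).op) = 𝟙 _ :=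
    (congrArg _ (Subsingleton.elim _ _)).trans ((Spec R).presheaf.map_id _)
  show (Scheme.ΓSpecIso R).hom ((Spec R).presheaf.map (homOfLE (le_refl (⊤ : (Spec R).Opens))).op _) = r
  rw [e, ConcreteCategory.id_apply, ← ConcreteCategory.comp_apply, Iso.inv_hom_id, ConcreteCategory.id_apply]

section
variable {S S' Y : Scheme.{u}} {pY : Y ⟶ S} {g : S' ⟶ S}
  {A B A' : Type u} [CommRing A] [CommRing B] [CommRing A'] [Algebra A B] [Algebra A A']
  {a : Spec (CommRingCat.of A) ⟶ S} {e : Spec (CommRingCat.of B) ⟶ Y} {ε : Spec (CommRingCat.of A') ⟶ S'}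

/-- The affine chart `Spec (A' ⊗ B)` of a fibre product. -/
noncomputable def tensorImm (hB : Spec.map (CommRingCat.ofHom (algebraMap A B)) ≫ a = e ≫ pY)
    (hA : Spec.map (CommRingCat.ofHom (algebraMap A A')) ≫ a = ε ≫ g) :
    Spec (CommRingCat.of (A' ⊗[A] B)) ⟶ pullback pY g :=
  (pullbackSpecIso A A' B).inv ≫ pullback.map _ _ g pY ε e a hA hB ≫ (pullbackSymmetry g pY).hom

variable (hB : Spec.map (CommRingCat.ofHom (algebraMap A B)) ≫ a = e ≫ pY)
  (hA : Spec.map (CommRingCat.ofHom (algebraMap A A')) ≫ a = ε ≫ g)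

instance [IsOpenImmersion a] [IsOpenImmersion e] [IsOpenImmersion ε] : IsOpenImmersion (tensorImm hB hA) := by
  unfold tensorImm; infer_instance

@[reassoc]
theorem tensorImm_fst : tensorImm hB hA ≫ pullback.fst pY g =
    Spec.map (CommRingCat.ofHom (Algebra.TensorProduct.includeRight (R := A) (A := A') (B := B)).toRingHom) ≫ e := by
  rw [tensorImm, Category.assoc, Category.assoc, pullbackSymmetry_hom_comp_fst, pullback.lift_snd,
    pullbackSpecIso_inv_snd_assoc]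
  rfl

@[reassoc]
theorem tensorImm_snd : tensorImm hB hA ≫ pullback.snd pY g =
    Spec.map (CommRingCat.ofHom (Algebra.TensorProduct.includeLeftRingHom (R := A) (A := A') (B := B))) ≫ ε := by
  rw [tensorImm, Category.assoc, Category.assoc, pullbackSymmetry_hom_comp_snd, pullback.lift_fst,
    pullbackSpecIso_inv_fst_assoc]

theorem mem_range_tensorImm [Mono a] (x : ↥(pullback pY g)) :
    x ∈ Set.range (tensorImm hB hA) ↔
      pullback.fst pY g x ∈ Set.range e ∧ pullback.snd pY g x ∈ Set.range ε := by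
  have h1 : pullback.snd g pY ((pullbackSymmetry g pY).inv x) = pullback.fst pY g x := by
    rw [← Scheme.Hom.comp_apply, pullbackSymmetry_inv_comp_snd]
  have h2 : pullback.fst g pY ((pullbackSymmetry g pY).inv x) = pullback.snd pY g x := by
    rw [← Scheme.Hom.comp_apply, pullbackSymmetry_inv_comp_fst]
  have h3 : x ∈ Set.range (tensorImm hB hA) ↔
      (pullbackSymmetry g pY).inv x ∈ Set.range (pullback.map _ _ g pY ε e a hA hB) := by
    constructor
    · rintro ⟨q, rfl⟩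
      refine ⟨(pullbackSpecIso A A' B).inv q, ?_⟩
      rw [← Scheme.Hom.comp_apply, ← Scheme.Hom.comp_apply, tensorImm, Category.assoc, Category.assoc,
        Iso.hom_inv_id, Category.comp_id]
    · rintro ⟨q, hq⟩
      refine ⟨(pullbackSpecIso A A' B).hom q, ?_⟩
      rw [← Scheme.Hom.comp_apply, tensorImm, Iso.hom_inv_id_assoc, Scheme.Hom.comp_apply, hq, ← Scheme.Hom.comp_apply,
        Iso.inv_hom_id]
      rfl
  rw [h3, Scheme.Pullback.range_map, Set.mem_inter_iff, Set.mem_preimage, Set.mem_preimage, h1, h2, and_comm]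

variable {Y' : Scheme.{u}} {pY' : Y' ⟶ S} {f : Y' ⟶ Y} {C : Type u} [CommRing C] [Algebra A C]
  {eC : Spec (CommRingCat.of C) ⟶ Y'} (hC : Spec.map (CommRingCat.ofHom (algebraMap A C)) ≫ a = eC ≫ pY')
  (ψ : B →ₐ[A] C) (hψ : Spec.map (CommRingCat.ofHom ψ.toRingHom) ≫ e = eC ≫ f)

include hψ in
theorem map_tensorImm (w₁ : pY' ≫ 𝟙 S = f ≫ pY) (w₂ : g ≫ 𝟙 S = 𝟙 S' ≫ g) :
    Spec.map (CommRingCat.ofHom (Algebra.TensorProduct.map (AlgHom.id A A') ψ).toRingHom) ≫ tensorImm hB hA =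
      tensorImm hC hA ≫ pullback.map pY' g pY g f (𝟙 S') (𝟙 S) w₁ w₂ := by
  apply pullback.hom_ext
  · rw [Category.assoc, Category.assoc, tensorImm_fst, pullback.lift_fst, tensorImm_fst_assoc, ← Spec.map_comp_assoc,
      ← hψ, ← Spec.map_comp_assoc]
    congr 2
  · rw [Category.assoc, Category.assoc, tensorImm_snd, pullback.lift_snd, Category.comp_id, tensorImm_snd,
      ← Spec.map_comp_assoc]
    congr 2
    ext x
    simp

end

end Groth.Agent.Dominant62
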