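import Groth.Agent.Dominant62.Fibrewise
import Groth.Agent.Dominant62.TensorImm

/-! Schematic dominance of base changes in terms of affine charts. -/

set_option autoImplicit false
universe u

open CategoryTheory Limits AlgebraicGeometry TopologicalSpace Opposite TensorProduct

namespace Groth.Agent.Dominant62

/-- The base changes of the family are schematically dominant. -/
def SchDomAfter {X S S' : Scheme.{u}} (p : X ⟶ S) {ι : Type u} {Z : ι → Scheme.{u}} (f : ∀ i, Z i ⟶ X)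
    (g : S' ⟶ S) : Prop :=
  ∀ (V : (pullback p g).Opens) (t : Γ(pullback p g, V)),
    (∀ i, (pullback.map (f i ≫ p) g p g (f i) (𝟙 S') (𝟙 S) (Category.comp_id _)
      ((Category.comp_id _).trans (Category.id_comp _).symm)).app V t = 0) → t = 0

theorem mem_range_specMap_away {R : Type u} [CommRing R] (b : R) (q : Spec (CommRingCat.of R)) :
    q ∈ Set.range (Spec.map (CommRingCat.ofHom (algebraMap R (Localization.Away b)))) ↔ b ∉ q.asIdeal := by
  change q ∈ Set.range (PrimeSpectrum.comap (algebraMap R (Localization.Away b))) ↔ _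
  rw [PrimeSpectrum.localization_away_comap_range (Localization.Away b) b]
  exact PrimeSpectrum.mem_basicOpen b q

section
variable {X S S' : Scheme.{u}} {p : X ⟶ S} {ι : Type u} {Z : ι → Scheme.{u}} {f : ∀ i, Z i ⟶ X} {g : S' ⟶ S}
  {A B A' : Type u} [CommRing A] [CommRing B] [CommRing A'] [Algebra A B] [Algebra A A']
  {a : Spec (CommRingCat.of A) ⟶ S} [IsOpenImmersion a]
  {e : Spec (CommRingCat.of B) ⟶ X} [IsOpenImmersion e]
  {ε : Spec (CommRingCat.of A') ⟶ S'} [IsOpenImmersion ε]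
  {K : ι → Type u} {C : (Σ i, K i) → Type u} [∀ k, CommRing (C k)] [∀ k, Algebra A (C k)]
  {ψ : ∀ k, B →ₐ[A] C k} {eC : ∀ k : Σ i, K i, Spec (CommRingCat.of (C k)) ⟶ Z k.1} [∀ k, IsOpenImmersion (eC k)]
  (hB : Spec.map (CommRingCat.ofHom (algebraMap A B)) ≫ a = e ≫ p)
  (hA : Spec.map (CommRingCat.ofHom (algebraMap A A')) ≫ a = ε ≫ g)
  (hψ : ∀ k, Spec.map (CommRingCat.ofHom (ψ k).toRingHom) ≫ e = eC k ≫ f k.1)

include hB hψ in
theorem chart_comm (k : Σ i, K i) :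
    Spec.map (CommRingCat.ofHom (algebraMap A (C k))) ≫ a = eC k ≫ f k.1 ≫ p := by
  rw [← (ψ k).comp_algebraMap, CommRingCat.ofHom_comp, Spec.map_comp, Category.assoc, hB, ← Category.assoc]
  exact (congrArg (· ≫ p) (hψ k)).trans (Category.assoc _ _ _)

include hB hA hψ in
/-- Schematic dominance gives algebraic dominance on a chart. -/
theorem domAt_of_schDomAfter (hcover : ∀ i z, f i z ∈ Set.range e → ∃ k : K i, z ∈ Set.range (eC ⟨i, k⟩))
    (h : SchDomAfter p f g) : DomAt A ψ A' := by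
  intro b x hx
  let R := Localization.Away b
  let jB : Spec (CommRingCat.of (A' ⊗[A] B)) ⟶ pullback p g := tensorImm hB hA
  haveI : IsOpenImmersion jB := inferInstanceAs (IsOpenImmersion (tensorImm hB hA))
  haveI : IsOpenImmersion (Spec.map (CommRingCat.ofHom (algebraMap (A' ⊗[A] B) R))) :=
    IsOpenImmersion.of_isLocalization b
  let σ : Spec (CommRingCat.of R) ⟶ pullback p g := Spec.map (CommRingCat.ofHom (algebraMap (A' ⊗[A] B) R)) ≫ jB
  obtain ⟨t, ht⟩ := exists_secVal_eq σ (algebraMap (A' ⊗[A] B) R x)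
  suffices h0 : t = 0 by
    rw [h0, secVal_zero] at ht
    obtain ⟨⟨_, n, rfl⟩, hn⟩ := (IsLocalization.map_eq_zero_iff (Submonoid.powers b) R x).mp ht.symm
    exact ⟨n, hn⟩
  refine h _ t fun i => ?_
  set μ := pullback.map (f i ≫ p) g p g (f i) (𝟙 S') (𝟙 S) (Category.comp_id _)
    ((Category.comp_id _).trans (Category.id_comp _).symm) with hμ
  refine TopCat.Presheaf.section_ext (pullback (f i ≫ p) g).sheaf _ _ 0 fun y hy => ?_
  show (pullback (f i ≫ p) g).presheaf.germ _ y hy _ = (pullback (f i ≫ p) g).presheaf.germ _ y hy 0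
  rw [map_zero]
  obtain ⟨q₀, -, hq₀⟩ := show μ y ∈ σ ''ᵁ ⊤ from hy
  have hjB : jB (Spec.map (CommRingCat.ofHom (algebraMap (A' ⊗[A] B) R)) q₀) = μ y :=
    (Scheme.Hom.comp_apply _ _ _).symm.trans hq₀
  have hr : μ y ∈ Set.range (tensorImm hB hA) := ⟨_, hjB⟩
  obtain ⟨hr1, hr2⟩ := (mem_range_tensorImm hB hA _).mp hr
  have e1 : pullback.fst p g (μ y) = f i (pullback.fst (f i ≫ p) g y) := by
    rw [← Scheme.Hom.comp_apply, hμ, pullback.lift_fst, Scheme.Hom.comp_apply]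
  have e2 : pullback.snd p g (μ y) = pullback.snd (f i ≫ p) g y := by
    rw [← Scheme.Hom.comp_apply, hμ, pullback.lift_snd, Category.comp_id]
  rw [e1] at hr1
  rw [e2] at hr2
  obtain ⟨k, hk⟩ := hcover i _ hr1
  let hC := chart_comm hB hψ ⟨i, k⟩
  let jC : Spec (CommRingCat.of (A' ⊗[A] C ⟨i, k⟩)) ⟶ pullback (f i ≫ p) g := tensorImm hC hA
  haveI : IsOpenImmersion jC := inferInstanceAs (IsOpenImmersion (tensorImm hC hA))
  obtain ⟨q, hq⟩ : y ∈ Set.range jC := (mem_range_tensorImm hC hA y).mpr ⟨hk, hr2⟩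
  let T : A' ⊗[A] B →+* A' ⊗[A] C ⟨i, k⟩ := (Algebra.TensorProduct.map (AlgHom.id A A') (ψ ⟨i, k⟩)).toRingHom
  have hnat : Spec.map (CommRingCat.ofHom T) ≫ jB = jC ≫ μ := map_tensorImm hB hA hC (ψ ⟨i, k⟩) (hψ ⟨i, k⟩) _ _
  have hqb : T b ∉ q.asIdeal := by
    have e3 : Spec.map (CommRingCat.ofHom T) q = Spec.map (CommRingCat.ofHom (algebraMap (A' ⊗[A] B) R)) q₀ := by
      refine jB.isOpenEmbedding.injective ?_
      rw [hjB, ← Scheme.Hom.comp_apply, hnat, Scheme.Hom.comp_apply, hq]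
    exact (mem_range_specMap_away b _).mp ⟨q₀, e3.symm⟩
  obtain ⟨q', hq'⟩ := (mem_range_specMap_away (T b) q).mpr hqb
  let ρ : R →+* Localization.Away (T b) := Localization.awayMap T b
  have hsq : ρ.comp (algebraMap (A' ⊗[A] B) R) = (algebraMap _ (Localization.Away (T b))).comp T :=
    IsLocalization.map_comp _
  haveI : IsOpenImmersion (Spec.map (CommRingCat.ofHom (algebraMap (A' ⊗[A] C ⟨i, k⟩) (Localization.Away (T b))))) :=
    IsOpenImmersion.of_isLocalization (T b)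
  let σC : Spec (CommRingCat.of (Localization.Away (T b))) ⟶ pullback (f i ≫ p) g :=
    Spec.map (CommRingCat.ofHom (algebraMap (A' ⊗[A] C ⟨i, k⟩) (Localization.Away (T b)))) ≫ jC
  have hσ : σC ≫ μ = Spec.map (CommRingCat.ofHom ρ) ≫ σ := by
    show (_ ≫ jC) ≫ μ = _ ≫ _ ≫ jB
    rw [Category.assoc, ← hnat, ← Spec.map_comp_assoc, ← Spec.map_comp_assoc, ← CommRingCat.ofHom_comp,
      ← CommRingCat.ofHom_comp, hsq]
  have hle : ⊤ ≤ σC ⁻¹ᵁ (μ ⁻¹ᵁ (σ ''ᵁ ⊤)) := fun z _ => by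
    show μ (σC z) ∈ σ ''ᵁ ⊤
    rw [← Scheme.Hom.comp_apply, hσ, Scheme.Hom.comp_apply]
    exact ⟨_, trivial, rfl⟩
  have hy' : σC q' = y := by rw [Scheme.Hom.comp_apply, hq', hq]
  subst hy'
  refine germ_eq_zero_of_secVal σC _ hle _ ?_ q'
  rw [← secVal_comp σC μ (σ ''ᵁ ⊤) hle]
  have hgen : ∀ (m : Spec (CommRingCat.of (Localization.Away (T b))) ⟶ pullback p g) (hm : ⊤ ≤ m ⁻¹ᵁ (σ ''ᵁ ⊤)),
      m = Spec.map (CommRingCat.ofHom ρ) ≫ σ → secVal m (σ ''ᵁ ⊤) hm t = 0 := by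
    rintro m hm rfl
    rw [secVal_specMap _ σ _ (σ.preimage_image_eq ⊤).ge hm, ht]
    show ρ (algebraMap (A' ⊗[A] B) R x) = 0
    obtain ⟨n, hn⟩ := hx ⟨i, k⟩
    rw [← RingHom.comp_apply, hsq, RingHom.comp_apply]
    have h0 := congrArg (algebraMap (A' ⊗[A] C ⟨i, k⟩) (Localization.Away (T b))) (show T (b ^ n * x) = 0 from hn)
    rw [map_zero, map_mul, map_mul, map_pow, map_pow] at h0
    exact ((IsLocalization.Away.algebraMap_isUnit (T b)).pow n).mul_right_eq_zero.mp h0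
  exact hgen _ _ hσ

include hB hA hψ in
/-- A section killed by all members vanishes at the points of a chart with algebraic dominance. -/
theorem germ_eq_zero_of_domAt (h : DomAt A ψ A') (V : (pullback p g).Opens) (t : Γ(pullback p g, V))
    (ht : ∀ i, (pullback.map (f i ≫ p) g p g (f i) (𝟙 S') (𝟙 S) (Category.comp_id _)
      ((Category.comp_id _).trans (Category.id_comp _).symm)).app V t = 0)
    (x' : ↥(pullback p g)) (hx' : x' ∈ V) (hx1 : pullback.fst p g x' ∈ Set.range e)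
    (hx2 : pullback.snd p g x' ∈ Set.range ε) : (pullback p g).presheaf.germ V x' hx' t = 0 := by
  let jB : Spec (CommRingCat.of (A' ⊗[A] B)) ⟶ pullback p g := tensorImm hB hA
  haveI : IsOpenImmersion jB := inferInstanceAs (IsOpenImmersion (tensorImm hB hA))
  obtain ⟨q, rfl⟩ : x' ∈ Set.range jB := (mem_range_tensorImm hB hA x').mpr ⟨hx1, hx2⟩
  obtain ⟨_, ⟨b, rfl⟩, hqb, hb⟩ := PrimeSpectrum.isTopologicalBasis_basic_opens.exists_subset_of_mem_open
    (show q ∈ (jB ⁻¹ᵁ V : Set (Spec (CommRingCat.of (A' ⊗[A] B)))) from hx') (jB ⁻¹ᵁ V).2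
  let R := Localization.Away b
  haveI : IsOpenImmersion (Spec.map (CommRingCat.ofHom (algebraMap (A' ⊗[A] B) R))) :=
    IsOpenImmersion.of_isLocalization b
  let σ : Spec (CommRingCat.of R) ⟶ pullback p g := Spec.map (CommRingCat.ofHom (algebraMap (A' ⊗[A] B) R)) ≫ jB
  have hle : ⊤ ≤ σ ⁻¹ᵁ V := fun z _ => hb ((mem_range_specMap_away b _).mp ⟨z, rfl⟩)
  obtain ⟨q', hq'⟩ := (mem_range_specMap_away b q).mpr hqb
  subst hq'
  refine germ_eq_zero_of_secVal σ V hle t ?_ q'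
  obtain ⟨⟨u, s⟩, hu⟩ := IsLocalization.surj (Submonoid.powers b) (secVal σ V hle t)
  suffices hux : ∃ n : ℕ, b ^ n * u = 0 by
    obtain ⟨n, hn⟩ := hux
    have h0 : algebraMap (A' ⊗[A] B) R u = 0 := by
      rw [IsLocalization.map_eq_zero_iff (Submonoid.powers b) R]
      exact ⟨⟨b ^ n, n, rfl⟩, hn⟩
    rw [h0] at hu
    exact (IsLocalization.map_units R s).mul_left_eq_zero.mp hu
  refine h b u fun k => ?_
  obtain ⟨i, k⟩ := k
  set μ := pullback.map (f i ≫ p) g p g (f i) (𝟙 S') (𝟙 S) (Category.comp_id _)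
    ((Category.comp_id _).trans (Category.id_comp _).symm) with hμ
  let hC := chart_comm hB hψ ⟨i, k⟩
  let T : A' ⊗[A] B →+* A' ⊗[A] C ⟨i, k⟩ := (Algebra.TensorProduct.map (AlgHom.id A A') (ψ ⟨i, k⟩)).toRingHom
  have hnat : Spec.map (CommRingCat.ofHom T) ≫ jB = tensorImm hC hA ≫ μ :=
    map_tensorImm hB hA hC (ψ ⟨i, k⟩) (hψ ⟨i, k⟩) _ _
  let ρ : R →+* Localization.Away (T b) := Localization.awayMap T b
  have hsq : ρ.comp (algebraMap (A' ⊗[A] B) R) = (algebraMap _ (Localization.Away (T b))).comp T :=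
    IsLocalization.map_comp _
  let σC : Spec (CommRingCat.of (Localization.Away (T b))) ⟶ pullback (f i ≫ p) g :=
    Spec.map (CommRingCat.ofHom (algebraMap (A' ⊗[A] C ⟨i, k⟩) (Localization.Away (T b)))) ≫ tensorImm hC hA
  have hσ : σC ≫ μ = Spec.map (CommRingCat.ofHom ρ) ≫ σ := by
    show (_ ≫ tensorImm hC hA) ≫ μ = _ ≫ _ ≫ jB
    rw [Category.assoc, ← hnat, ← Spec.map_comp_assoc, ← Spec.map_comp_assoc, ← CommRingCat.ofHom_comp,
      ← CommRingCat.ofHom_comp, hsq]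
  have hle' : ⊤ ≤ (Spec.map (CommRingCat.ofHom ρ) ≫ σ) ⁻¹ᵁ V := fun z _ => hle (Set.mem_univ _)
  have hgen : ∀ (m : Spec (CommRingCat.of (Localization.Away (T b))) ⟶ pullback p g) (hm : ⊤ ≤ m ⁻¹ᵁ V),
      m = σC ≫ μ → secVal m V hm t = 0 := by
    rintro m hm rfl
    rw [secVal_comp, ht i]
    exact secVal_zero _ _ _
  have h1 : ρ (secVal σ V hle t) = 0 :=
    (secVal_specMap (CommRingCat.ofHom ρ) σ V hle hle' t).symm.trans (hgen _ hle' hσ.symm)
  have h2 : algebraMap (A' ⊗[A] C ⟨i, k⟩) (Localization.Away (T b)) (T u) = 0 := by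
    rw [← RingHom.comp_apply, ← hsq, RingHom.comp_apply, ← hu, map_mul, h1, zero_mul]
  obtain ⟨⟨_, n, rfl⟩, hn⟩ := (IsLocalization.map_eq_zero_iff (Submonoid.powers (T b)) _ _).mp h2
  exact ⟨n, by show T (b ^ n * u) = 0; rw [map_mul, map_pow]; exact hn⟩

end

end Groth.Agent.Dominant62
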