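import Groth.Agent.Dominant62.FlatDominant
import Mathlib.RingTheory.Filtration
import Mathlib.RingTheory.LocalRing.ResidueField.Ideal
import Mathlib.LinearAlgebra.TensorProduct.Basis
import Mathlib.LinearAlgebra.TensorProduct.Quotient
import Mathlib.RingTheory.FiniteStability
import Mathlib.RingTheory.TensorProduct.Basic

/-! Schematically dominant families of ring maps: fields extensions and fibrewise criterion (EGA IV 11.10.9, algebra form). -/

set_option autoImplicit false
universe u

open TensorProduct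

namespace Groth.Agent.Dominant62

/-- A family of ring maps is dominant: an element killed on every basic open of the targets is zero there. -/
def Dom {κ : Type*} {R : Type u} [CommRing R] {S : κ → Type u} [∀ k, CommRing (S k)] (T : ∀ k, R →+* S k) : Prop :=
  ∀ b x : R, (∀ k, ∃ n : ℕ, T k (b ^ n * x) = 0) → ∃ n : ℕ, b ^ n * x = 0

theorem Dom.of_equiv {κ : Type*} {R R' : Type u} [CommRing R] [CommRing R'] {S S' : κ → Type u}
    [∀ k, CommRing (S k)] [∀ k, CommRing (S' k)] {T : ∀ k, R →+* S k} {T' : ∀ k, R' →+* S' k}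
    (h : Dom T) (e : R' ≃+* R) (η : ∀ k, S' k →+* S k) (hη : ∀ k y, T k (e y) = η k (T' k y)) : Dom T' := by
  intro b x hx
  obtain ⟨n, hn⟩ := h (e b) (e x) fun k => by
    obtain ⟨n, hn⟩ := hx k
    exact ⟨n, by rw [← map_pow, ← map_mul, hη, hn, map_zero]⟩
  exact ⟨n, e.injective (by rw [map_mul, map_pow, hn, map_zero])⟩

/-- The family `A' ⊗ ψ` is dominant. -/
def DomAt (A : Type u) [CommRing A] {B : Type u} [CommRing B] [Algebra A B] {κ : Type*} {C : κ → Type u}
    [∀ k, CommRing (C k)] [∀ k, Algebra A (C k)] (ψ : ∀ k, B →ₐ[A] C k)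
    (A' : Type u) [CommRing A'] [Algebra A A'] : Prop :=
  Dom fun k => (Algebra.TensorProduct.map (AlgHom.id A A') (ψ k)).toRingHom

section Subalgebra
variable {A : Type u} [CommRing A] {B : Type u} [CommRing B] [Algebra A B]
  (A' : Type u) [CommRing A'] [Algebra A A']

theorem exists_fg_range (x : A' ⊗[A] B) : ∃ D : Subalgebra A A', D.FG ∧
    ∀ E : Subalgebra A A', D ≤ E → x ∈ (Algebra.TensorProduct.map E.val (AlgHom.id A B)).range := by
  induction x using TensorProduct.induction_on with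
  | zero => exact ⟨⊥, Subalgebra.fg_bot, fun E _ => zero_mem _⟩
  | tmul a b =>
    exact ⟨Algebra.adjoin A {a}, ⟨{a}, by rw [Finset.coe_singleton]⟩,
      fun E hE => ⟨(⟨a, hE (Algebra.self_mem_adjoin_singleton A a)⟩ : E) ⊗ₜ b, rfl⟩⟩
  | add x y hx hy =>
    obtain ⟨D₁, h₁, hD₁⟩ := hx
    obtain ⟨D₂, h₂, hD₂⟩ := hy
    exact ⟨D₁ ⊔ D₂, h₁.sup h₂,
      fun E hE => add_mem (hD₁ E (le_sup_left.trans hE)) (hD₂ E (le_sup_right.trans hE))⟩

variable {κ : Type*} {C : κ → Type u} [∀ k, CommRing (C k)] [∀ k, Algebra A (C k)] [∀ k, Module.Flat A (C k)]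
  (ψ : ∀ k, B →ₐ[A] C k)

/-- It suffices to test finitely generated subalgebras. -/
theorem DomAt.of_fg (h : ∀ D : Subalgebra A A', D.FG → DomAt A ψ D) : DomAt A ψ A' := by
  intro b x hx
  obtain ⟨D₁, h₁, hD₁⟩ := exists_fg_range A' b
  obtain ⟨D₂, h₂, hD₂⟩ := exists_fg_range A' x
  obtain ⟨b₀, rfl⟩ := hD₁ (D₁ ⊔ D₂) le_sup_left
  obtain ⟨x₀, rfl⟩ := hD₂ (D₁ ⊔ D₂) le_sup_right
  obtain ⟨n, hn⟩ := h _ (h₁.sup h₂) b₀ x₀ fun k => by
    obtain ⟨n, hn⟩ := hx k
    refine ⟨n, Module.Flat.rTensor_preserves_injective_linearMap (M := C k) (D₁ ⊔ D₂).val.toLinearMap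
      Subtype.val_injective ?_⟩
    rw [map_zero]
    have key : ∀ y : ↥(D₁ ⊔ D₂) ⊗[A] B, (D₁ ⊔ D₂).val.toLinearMap.rTensor (C k)
        (Algebra.TensorProduct.map (AlgHom.id A _) (ψ k) y) =
        Algebra.TensorProduct.map (AlgHom.id A A') (ψ k)
          (Algebra.TensorProduct.map (D₁ ⊔ D₂).val (AlgHom.id A B) y) := by
      intro y
      induction y using TensorProduct.induction_on with
      | zero => simp
      | tmul d y => rfl
      | add a b ha hb => simp only [map_add, ha, hb]
    rw [← map_pow, ← map_mul] at hn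
    exact (key _).trans hn
  exact ⟨n, by simpa using congrArg (Algebra.TensorProduct.map (D₁ ⊔ D₂).val (AlgHom.id A B)) hn⟩

end Subalgebra

section FieldExt
variable {K : Type u} [Field K] {B : Type u} [CommRing B] [Algebra K B] {κ : Type*} {C : κ → Type u}
  [∀ k, CommRing (C k)] [∀ k, Algebra K (C k)] (ψ : ∀ k, B →ₐ[K] C k)

theorem domAt_of_finiteType (h : Dom fun k => (ψ k).toRingHom) (A' : Type u) [CommRing A'] [Algebra K A']
    [Algebra.FiniteType K A'] : Dom fun k => (Algebra.TensorProduct.map (ψ k) (AlgHom.id K A')).toRingHom := by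
  haveI : Algebra.FinitePresentation K A' := Algebra.FinitePresentation.of_finiteType.mp inferInstance
  intro b x hx
  letI : ∀ k, Algebra B (C k) := fun k => (ψ k).toRingHom.toAlgebra
  haveI : ∀ k, IsScalarTower K B (C k) := fun k => IsScalarTower.of_algebraMap_eq fun a => ((ψ k).commutes a).symm
  let R₀ := B ⊗[K] A'
  let R := Localization.Away b
  haveI : Algebra.FinitePresentation R₀ R := IsLocalization.Away.finitePresentation b
  haveI : Algebra.FinitePresentation B R := .trans B R₀ R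
  haveI : Module.Flat R₀ R := IsLocalization.flat R (Submonoid.powers b)
  haveI : Module.Flat B R := .trans B R₀ R
  suffices hz : algebraMap R₀ R x = 0 by
    obtain ⟨⟨_, n, rfl⟩, hn⟩ := (IsLocalization.map_eq_zero_iff (Submonoid.powers b) R x).mp hz
    exact ⟨n, hn⟩
  refine eq_zero_of_flat (fun k => Algebra.linearMap B (C k)) (fun c y hy => h c y fun k => ?_) _ fun k => ?_
  · obtain ⟨n, hn⟩ := hy k
    refine ⟨n, ?_⟩
    rw [Algebra.linearMap_apply, Algebra.smul_def, ← map_mul] at hn
    exact hn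
  obtain ⟨n, hn⟩ := hx k
  show algebraMap B (C k) 1 ⊗ₜ[B] algebraMap R₀ R x = 0
  rw [map_one]
  let Φ : C k ⊗[K] A' →ₐ[K] C k ⊗[B] R := Algebra.TensorProduct.lift
    ((Algebra.TensorProduct.includeLeft : C k →ₐ[B] C k ⊗[B] R).restrictScalars K)
    (((Algebra.TensorProduct.includeRight : R →ₐ[B] C k ⊗[B] R).restrictScalars K).comp
      ((IsScalarTower.toAlgHom K R₀ R).comp Algebra.TensorProduct.includeRight))
    fun _ _ => Commute.all _ _
  have key : ∀ y : R₀, Φ (Algebra.TensorProduct.map (ψ k) (AlgHom.id K A') y) =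
      (1 : C k) ⊗ₜ[B] algebraMap R₀ R y := by
    intro y
    induction y using TensorProduct.induction_on with
    | zero => simp
    | add a b ha hb => simp only [map_add, ha, hb, tmul_add]
    | tmul c a =>
      have e1 : (ψ k c : C k) = c • (1 : C k) := by rw [Algebra.smul_def, mul_one]; rfl
      have e2 : c • algebraMap R₀ R ((1 : B) ⊗ₜ a) = algebraMap R₀ R (c ⊗ₜ a) := by
        rw [← IsScalarTower.algebraMap_smul R₀ c, Algebra.smul_def, ← map_mul,
          Algebra.TensorProduct.algebraMap_apply, Algebra.TensorProduct.tmul_mul_tmul, Algebra.algebraMap_self_apply,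
          mul_one, one_mul]
      simp only [Algebra.TensorProduct.map_tmul, AlgHom.id_apply, Φ, Algebra.TensorProduct.lift_tmul]
      show (ψ k c ⊗ₜ[B] (1 : R)) * ((1 : C k) ⊗ₜ[B] algebraMap R₀ R ((1 : B) ⊗ₜ a)) = _
      rw [Algebra.TensorProduct.tmul_mul_tmul, mul_one, one_mul, e1, smul_tmul, e2]
  have hu : IsUnit ((1 : C k) ⊗ₜ[B] algebraMap R₀ R b) :=
    (IsLocalization.Away.algebraMap_isUnit b).map (Algebra.TensorProduct.includeRight : R →ₐ[B] C k ⊗[B] R)
  have h0 := key (b ^ n * x)
  rw [show Algebra.TensorProduct.map (ψ k) (AlgHom.id K A') (b ^ n * x) = 0 from hn, map_zero, map_mul, map_pow] at h0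
  have h1 : ((1 : C k) ⊗ₜ[B] algebraMap R₀ R b) ^ n * ((1 : C k) ⊗ₜ[B] algebraMap R₀ R x) = 0 := by
    rw [Algebra.TensorProduct.tmul_pow, Algebra.TensorProduct.tmul_mul_tmul, one_pow, mul_one, ← h0]
  exact (hu.pow n).mul_right_eq_zero.mp h1

end FieldExt

/-- Dominance over a field persists after any base change. -/
theorem DomAt.of_field {A : Type u} [CommRing A] {B : Type u} [CommRing B] [Algebra A B] {κ : Type*}
    {C : κ → Type u} [∀ k, CommRing (C k)] [∀ k, Algebra A (C k)] (ψ : ∀ k, B →ₐ[A] C k)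
    (K : Type u) [Field K] [Algebra A K] (h : DomAt A ψ K)
    (K' : Type u) [CommRing K'] [Algebra A K'] [Algebra K K'] [IsScalarTower A K K'] : DomAt A ψ K' := by
  let ψK : ∀ k, K ⊗[A] B →ₐ[K] K ⊗[A] C k := fun k => Algebra.TensorProduct.map (AlgHom.id K K) (ψ k)
  have hK : Dom fun k => (ψK k).toRingHom := by
    refine h.of_equiv (RingEquiv.refl _) (fun k => RingHom.id _) fun k y => ?_
    rfl
  have h1 : DomAt K ψK K' := by
    refine DomAt.of_fg K' ψK fun D hD => ?_
    haveI : Algebra.FiniteType K D := ⟨(Subalgebra.fg_top D).mpr hD⟩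
    refine (domAt_of_finiteType ψK hK D).of_equiv (Algebra.TensorProduct.comm K D (K ⊗[A] B)).toRingEquiv
      (fun k => (Algebra.TensorProduct.comm K D (K ⊗[A] C k)).toAlgHom.toRingHom) fun k y => ?_
    induction y using TensorProduct.induction_on with
    | zero => simp
    | tmul d z => rfl
    | add a b ha hb => simp only [map_add, ha, hb]
  refine h1.of_equiv (Algebra.TensorProduct.cancelBaseChange A K K' K' B).symm.toRingEquiv
    (fun k => (Algebra.TensorProduct.cancelBaseChange A K K' K' (C k)).symm.toAlgHom.toRingHom) fun k y => ?_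
  induction y using TensorProduct.induction_on with
  | zero => simp
  | tmul d z => simp [ψK]
  | add a b ha hb => simp only [map_add, ha, hb]

end Groth.Agent.Dominant62
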