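import Groth.Agent.Dominant62.Criterion
import Groth.Prelude.Def_MoreMor
import Mathlib.AlgebraicGeometry.Morphisms.Flat
import Mathlib.AlgebraicGeometry.Noetherian

/-! Universal schematic dominance is fibrewise for flat families over a locally Noetherian source (EGA IV 11.10.9). -/

set_option autoImplicit false
universe u

open CategoryTheory Limits AlgebraicGeometry TopologicalSpace Opposite TensorProduct

namespace Groth.Agent.Dominant62

variable {X S : Scheme.{u}} {p : X ⟶ S} {ι : Type u} {Z : ι → Scheme.{u}} {f : ∀ i, Z i ⟶ X}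

theorem schDomAfter_fibre_iff (s : S) :
    SchDomAfter p f (S.fromSpecResidueField s) ↔
      ∀ (V : (p.fiber s).Opens) (t : Γ(p.fiber s, V)), (∀ i, (MoreMor.fiberMap (f i) p s).app V t = 0) → t = 0 := by
  have e : ∀ i, MoreMor.fiberMap (f i) p s = pullback.map (f i ≫ p) (S.fromSpecResidueField s) p
      (S.fromSpecResidueField s) (f i) (𝟙 _) (𝟙 S) (Category.comp_id _)
      ((Category.comp_id _).trans (Category.id_comp _).symm) := fun i => by
    apply pullback.hom_ext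
    · exact (pullback.lift_fst _ _ _).trans (pullback.lift_fst _ _ _).symm
    · exact ((pullback.lift_snd _ _ _).trans (Category.comp_id _).symm).trans (pullback.lift_snd _ _ _).symm
  simp only [e]
  exact Iff.rfl

theorem domAt_of_schDomAfter_spec {A B A' : Type u} [CommRing A] [CommRing B] [CommRing A'] [Algebra A B]
    [Algebra A A'] {a : Spec (CommRingCat.of A) ⟶ S} [IsOpenImmersion a]
    {e : Spec (CommRingCat.of B) ⟶ X} [IsOpenImmersion e] {g : Spec (CommRingCat.of A') ⟶ S}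
    {K : ι → Type u} {C : (Σ i, K i) → Type u} [∀ k, CommRing (C k)] [∀ k, Algebra A (C k)]
    {ψ : ∀ k, B →ₐ[A] C k} {eC : ∀ k : Σ i, K i, Spec (CommRingCat.of (C k)) ⟶ Z k.1} [∀ k, IsOpenImmersion (eC k)]
    (hB : Spec.map (CommRingCat.ofHom (algebraMap A B)) ≫ a = e ≫ p)
    (hg : Spec.map (CommRingCat.ofHom (algebraMap A A')) ≫ a = g)
    (hψ : ∀ k, Spec.map (CommRingCat.ofHom (ψ k).toRingHom) ≫ e = eC k ≫ f k.1)
    (hcover : ∀ i z, f i z ∈ Set.range e → ∃ k : K i, z ∈ Set.range (eC ⟨i, k⟩))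
    (h : SchDomAfter p f g) : DomAt A ψ A' :=
  domAt_of_schDomAfter (ε := 𝟙 _) hB (hg.trans (Category.id_comp g).symm) hψ hcover h

theorem schDomAfter_of_fibres [IsLocallyNoetherian X] [∀ i, Flat (f i ≫ p)]
    (h : ∀ s : S, SchDomAfter p f (S.fromSpecResidueField s)) (S' : Scheme.{u}) (g : S' ⟶ S) : SchDomAfter p f g := by
  intro V t ht
  refine TopCat.Presheaf.section_ext (pullback p g).sheaf _ _ 0 fun x' hx' => ?_
  show (pullback p g).presheaf.germ _ x' hx' t = (pullback p g).presheaf.germ _ x' hx' 0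
  rw [map_zero]
  obtain ⟨U₀, hU₀, hs, -⟩ := exists_isAffineOpen_mem_and_subset (X := S) (x := g (pullback.snd p g x')) (U := ⊤) trivial
  obtain ⟨W, hW, hxW, eW⟩ := exists_isAffineOpen_mem_and_subset (X := S') (x := pullback.snd p g x') (U := g ⁻¹ᵁ U₀) hs
  have hx0 : p (pullback.fst p g x') ∈ U₀ := by
    rw [← Scheme.Hom.comp_apply, pullback.condition, Scheme.Hom.comp_apply]
    exact hs
  obtain ⟨U, hU, hxU, eU⟩ := exists_isAffineOpen_mem_and_subset (X := X) (x := pullback.fst p g x') (U := p ⁻¹ᵁ U₀) hx0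
  letI : Algebra Γ(S, U₀) Γ(X, U) := (p.appLE U₀ U eU).hom.toAlgebra
  letI : Algebra Γ(S, U₀) Γ(S', W) := (g.appLE U₀ W eW).hom.toAlgebra
  haveI : IsNoetherianRing Γ(X, U) := IsLocallyNoetherian.component_noetherian ⟨U, hU⟩
  let K : ι → Type u := fun i => {O : (Z i).affineOpens // O.1 ≤ f i ⁻¹ᵁ U}
  let C : (Σ i, K i) → Type u := fun k => Γ(Z k.1, k.2.1.1)
  have eO : ∀ k : Σ i, K i, k.2.1.1 ≤ (f k.1 ≫ p) ⁻¹ᵁ U₀ := fun k z hz => eU (k.2.2 hz)
  letI : ∀ k, Algebra Γ(S, U₀) (C k) := fun k => ((f k.1 ≫ p).appLE U₀ k.2.1.1 (eO k)).hom.toAlgebra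
  haveI : ∀ k, Module.Flat Γ(S, U₀) (C k) := fun k => (f k.1 ≫ p).flat_appLE hU₀ k.2.1.2 (eO k)
  let ψ : ∀ k : Σ i, K i, Γ(X, U) →ₐ[Γ(S, U₀)] C k := fun k =>
    { ((f k.1).appLE U k.2.1.1 k.2.2).hom with
      commutes' := fun c => by
        show ((f k.1).appLE U k.2.1.1 k.2.2) ((p.appLE U₀ U eU) c) = ((f k.1 ≫ p).appLE U₀ k.2.1.1 (eO k)) c
        rw [← ConcreteCategory.comp_apply]
        erw [Scheme.Hom.appLE_comp_appLE] }
  have hB : Spec.map (CommRingCat.ofHom (algebraMap Γ(S, U₀) Γ(X, U))) ≫ hU₀.fromSpec = hU.fromSpec ≫ p :=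
    hU₀.SpecMap_appLE_fromSpec p hU eU
  have hψ : ∀ k : Σ i, K i, Spec.map (CommRingCat.ofHom (ψ k).toRingHom) ≫ hU.fromSpec =
      k.2.1.2.fromSpec ≫ f k.1 := fun k => hU.SpecMap_appLE_fromSpec (f k.1) k.2.1.2 k.2.2
  have hcover : ∀ i z, f i z ∈ Set.range hU.fromSpec → ∃ k : K i, z ∈ Set.range k.1.2.fromSpec := by
    intro i z hz
    rw [hU.range_fromSpec] at hz
    obtain ⟨O, hO, hzO, hOsub⟩ := exists_isAffineOpen_mem_and_subset (X := Z i) (x := z) (U := f i ⁻¹ᵁ U) hz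
    exact ⟨⟨⟨O, hO⟩, hOsub⟩, hO.range_fromSpec.symm ▸ hzO⟩
  have hA : Spec.map (CommRingCat.ofHom (algebraMap Γ(S, U₀) Γ(S', W))) ≫ hU₀.fromSpec = hW.fromSpec ≫ g :=
    hU₀.SpecMap_appLE_fromSpec g hW eW
  haveI : ∀ k : Σ i, K i, IsOpenImmersion k.2.1.2.fromSpec := fun k => k.2.1.2.isOpenImmersion_fromSpec
  refine germ_eq_zero_of_domAt (eC := fun k : Σ i, K i => k.2.1.2.fromSpec) hB hA hψ ?_ V t ht x' hx'
    (hU.range_fromSpec.symm ▸ hxU) (hW.range_fromSpec.symm ▸ hxW)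
  refine domAt_of_fibres ψ (fun P => ?_) _
  -- the fibre at a point of the base
  let g₀ : Spec (CommRingCat.of P.asIdeal.ResidueField) ⟶ S :=
    Spec.map (CommRingCat.ofHom (algebraMap Γ(S, U₀) P.asIdeal.ResidueField)) ≫ hU₀.fromSpec
  obtain ⟨⟨s, φ⟩, hφ⟩ := (Scheme.SpecToEquivOfField P.asIdeal.ResidueField S).symm.surjective g₀
  change Spec.map φ ≫ S.fromSpecResidueField s = g₀ at hφ
  have hsU : s ∈ U₀ := by
    have h1 : g₀ (IsLocalRing.closedPoint P.asIdeal.ResidueField) ∈ U₀ := by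
      show hU₀.fromSpec _ ∈ U₀
      exact hU₀.range_fromSpec.le ⟨_, rfl⟩
    rw [← hφ] at h1
    erw [Scheme.Hom.comp_apply, Scheme.fromSpecResidueField_apply] at h1
    exact h1
  let α : Γ(S, U₀) ⟶ S.residueField s := S.presheaf.germ U₀ s hsU ≫ S.residue s
  have hα : Spec.map α ≫ hU₀.fromSpec = S.fromSpecResidueField s := by
    rw [Spec.map_comp, Category.assoc]
    exact congrArg (Spec.map (S.residue s) ≫ ·) (hU₀.fromSpecStalk_eq_fromSpecStalk hsU)
  have hαφ : α ≫ φ = CommRingCat.ofHom (algebraMap Γ(S, U₀) P.asIdeal.ResidueField) := by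
    apply Spec.map_injective
    rw [← cancel_mono hU₀.fromSpec, Spec.map_comp, Category.assoc, hα]
    exact hφ
  letI : Algebra Γ(S, U₀) (IsLocalRing.ResidueField (S.presheaf.stalk s)) := α.hom.toAlgebra
  letI : Algebra (IsLocalRing.ResidueField (S.presheaf.stalk s)) P.asIdeal.ResidueField := φ.hom.toAlgebra
  haveI : IsScalarTower Γ(S, U₀) (IsLocalRing.ResidueField (S.presheaf.stalk s)) P.asIdeal.ResidueField :=
    IsScalarTower.of_algebraMap_eq' (congrArg CommRingCat.Hom.hom hαφ).symm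
  refine DomAt.of_field ψ (IsLocalRing.ResidueField (S.presheaf.stalk s)) ?_ P.asIdeal.ResidueField
  exact domAt_of_schDomAfter_spec (g := S.fromSpecResidueField s)
    (eC := fun k : Σ i, K i => k.2.1.2.fromSpec) hB hα hψ hcover (h s)

end Groth.Agent.Dominant62
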