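import Groth.Agent.Dominant62.Dom

/-! The fibrewise criterion for universal schematic dominance, algebra form. -/

set_option autoImplicit false
universe u

open TensorProduct

namespace Groth.Agent.Dominant62

theorem exists_smul_mem_of_tmul_eq_zero {A : Type u} [CommRing A] (m : Ideal A) [m.IsPrime] {M : Type u}
    [AddCommGroup M] [Module A M] (x : M) (h : (1 : m.ResidueField) ⊗ₜ[A] x = 0) :
    ∃ a, a ∉ m ∧ a • x ∈ m • (⊤ : Submodule A M) := by
  let K := A ⧸ m
  have h1 : (TensorProduct.mk K m.ResidueField (K ⊗[A] M) 1) ((1 : K) ⊗ₜ x) = 0 := by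
    refine (AlgebraTensorModule.cancelBaseChange A K m.ResidueField m.ResidueField M).injective ?_
    simpa using h
  obtain ⟨⟨a', ha'⟩, hs⟩ := (IsLocalizedModule.eq_zero_iff (nonZeroDivisors K)
    (TensorProduct.mk K m.ResidueField (K ⊗[A] M) 1)).mp h1
  obtain ⟨a, rfl⟩ := Ideal.Quotient.mk_surjective a'
  refine ⟨a, fun ha => nonZeroDivisors.ne_zero ha' (Ideal.Quotient.eq_zero_iff_mem.mpr ha), ?_⟩
  rw [Submonoid.smul_def] at hs
  change (Ideal.Quotient.mk m a) • ((1 : K) ⊗ₜ[A] x) = 0 at hs
  have e : (Ideal.Quotient.mk m a) • ((1 : K) ⊗ₜ[A] x) = (1 : K) ⊗ₜ[A] (a • x) := by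
    rw [tmul_smul, ← Ideal.Quotient.algebraMap_eq, algebraMap_smul]
  rw [e] at hs
  have h2 := congrArg (quotTensorEquivQuotSMul M m) hs
  rw [map_zero] at h2
  rw [← Submodule.Quotient.mk_eq_zero]
  rw [show (1 : K) = Ideal.Quotient.mk m 1 from rfl, quotTensorEquivQuotSMul_mk_tmul, one_smul] at h2
  exact h2

section
variable {A : Type u} [CommRing A] {B : Type u} [CommRing B] [Algebra A B] {κ : Type*} {C : κ → Type u}
  [∀ k, CommRing (C k)] [∀ k, Algebra A (C k)] [∀ k, Module.Flat A (C k)] (ψ : ∀ k, B →ₐ[A] C k)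

/-- The graded step. -/
theorem step_pow (b : B) (m : Ideal A) [m.IsPrime] (hK : DomAt A ψ m.ResidueField) (I : Ideal A) (v : B)
    (hv : v ∈ I.map (algebraMap A B)) (hkill : ∀ k, ∃ n : ℕ, ψ k (b ^ n * v) = 0) :
    ∃ a, a ∉ m ∧ ∃ N : ℕ, algebraMap A B a * (b ^ N * v) ∈ (m * I).map (algebraMap A B) := by
  classical
  let K := m.ResidueField
  let μ : I ⊗[A] B →ₗ[A] B := TensorProduct.lift ((LinearMap.lsmul A B).comp I.subtype)
  let μC : ∀ k, I ⊗[A] C k →ₗ[A] C k := fun k => TensorProduct.lift ((LinearMap.lsmul A (C k)).comp I.subtype)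
  have hμ : ∀ (c : B) (y : I ⊗[A] B), μ ((LinearMap.mulLeft A c).lTensor I y) = c * μ y := by
    intro c y
    induction y using TensorProduct.induction_on with
    | zero => simp
    | tmul i y => simp [μ, mul_smul_comm]
    | add a b ha hb => simp only [map_add, ha, hb, mul_add]
  obtain ⟨w, rfl⟩ : ∃ w, μ w = v := by
    refine Submodule.span_induction ?_ ?_ ?_ ?_ hv
    · rintro _ ⟨a, ha, rfl⟩
      exact ⟨⟨a, ha⟩ ⊗ₜ 1, by simp [μ, Algebra.smul_def]⟩
    · exact ⟨0, map_zero _⟩
    · rintro _ _ _ _ ⟨x, rfl⟩ ⟨y, rfl⟩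
      exact ⟨x + y, map_add _ _ _⟩
    · rintro r _ _ ⟨x, rfl⟩
      exact ⟨(LinearMap.mulLeft A r).lTensor I x, hμ r x⟩
  have hμψ : ∀ k y, μC k ((ψ k).toLinearMap.lTensor I y) = ψ k (μ y) := by
    intro k y
    induction y using TensorProduct.induction_on with
    | zero => simp
    | tmul i y => simp [μ, μC]
    | add a b ha hb => simp only [map_add, ha, hb]
  have hinj : ∀ k, Function.Injective (μC k) := by
    intro k
    have e : μC k = (TensorProduct.lid A (C k)).toLinearMap ∘ₗ I.subtype.rTensor (C k) := TensorProduct.ext' fun i c => by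
      simp [μC]
    rw [e]
    exact (TensorProduct.lid A (C k)).injective.comp
      (Module.Flat.rTensor_preserves_injective_linearMap _ Subtype.val_injective)
  -- coordinates in the fibre
  let V := K ⊗[A] I
  let ι := Module.Free.ChooseBasisIndex K V
  let β : Module.Basis ι K V := Module.Free.chooseBasis K V
  let d : ι → I →ₗ[A] K := fun j => (β.coord j).restrictScalars A ∘ₗ TensorProduct.mk A K I 1
  have hd : ∀ (N : ℕ) (j : ι), (K ∙ (1 : K)) = ⊤ → ∀ y, (d j).rTensor B ((LinearMap.mulLeft A (b ^ N)).lTensor I y) =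
      ((1 : K) ⊗ₜ b) ^ N * (d j).rTensor B y := by
    intro N j _ y
    induction y using TensorProduct.induction_on with
    | zero => simp
    | tmul i y => simp [Algebra.TensorProduct.tmul_pow]
    | add a b ha hb => simp only [map_add, ha, hb, mul_add]
  have hone : (K ∙ (1 : K)) = ⊤ := Ideal.span_singleton_one
  have hcoord : ∀ j, ∃ N : ℕ, ((1 : K) ⊗ₜ[A] b) ^ N * (d j).rTensor B w = 0 := fun j => by
    refine hK _ _ fun k => ?_
    obtain ⟨n, hn⟩ := hkill k
    refine ⟨n, ?_⟩
    have h0 : (ψ k).toLinearMap.lTensor I ((LinearMap.mulLeft A (b ^ n)).lTensor I w) = 0 := by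
      refine hinj k ?_
      rw [map_zero, hμψ, hμ, hn]
    have hnat : ∀ y : I ⊗[A] B, Algebra.TensorProduct.map (AlgHom.id A K) (ψ k) ((d j).rTensor B y) =
        (d j).rTensor (C k) ((ψ k).toLinearMap.lTensor I y) := by
      intro y
      induction y using TensorProduct.induction_on with
      | zero => simp
      | tmul i y => simp
      | add a b ha hb => simp only [map_add, ha, hb]
    show Algebra.TensorProduct.map (AlgHom.id A K) (ψ k) (((1 : K) ⊗ₜ[A] b) ^ n * (d j).rTensor B w) = 0
    rw [← hd n j hone, hnat, h0, map_zero]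
  -- finitely many coordinates suffice
  let G : ι → K ⊗[A] B →ₗ[A] V ⊗[A] B := fun j => ((LinearMap.toSpanSingleton K V (β j)).restrictScalars A).rTensor B
  let π : I ⊗[A] B →ₗ[A] V ⊗[A] B := (TensorProduct.mk A K I 1).rTensor B
  have hrec : ∀ y : I ⊗[A] B, ∃ s : Finset ι, ∀ t, s ⊆ t → π y = ∑ j ∈ t, G j ((d j).rTensor B y) := by
    intro y
    induction y using TensorProduct.induction_on with
    | zero => exact ⟨∅, fun t _ => by simp⟩
    | add a b ha hb =>
      obtain ⟨s, hs⟩ := ha
      obtain ⟨s', hs'⟩ := hb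
      refine ⟨s ∪ s', fun t ht => ?_⟩
      simp only [map_add, Finset.sum_add_distrib]
      rw [← hs t (Finset.union_subset_left ht), ← hs' t (Finset.union_subset_right ht)]
    | tmul i y =>
      refine ⟨(β.repr ((1 : K) ⊗ₜ i)).support, fun t ht => ?_⟩
      have h1 : ((1 : K) ⊗ₜ[A] i : V) = ∑ j ∈ t, β.coord j ((1 : K) ⊗ₜ i) • β j := by
        conv_lhs => rw [← β.linearCombination_repr ((1 : K) ⊗ₜ i)]
        rw [Finsupp.linearCombination_apply, Finsupp.sum_of_support_subset _ ht (fun j a => a • β j) (fun j _ => zero_smul _ _)]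
        rfl
      have h2 := congrArg (fun z : V => z ⊗ₜ[A] y) h1
      simp only [sum_tmul] at h2
      refine h2.trans (Finset.sum_congr rfl fun j _ => ?_)
      rfl
  obtain ⟨s, hs⟩ := hrec w
  choose Nj hNj using hcoord
  let N := s.sup Nj
  obtain ⟨s', hs'⟩ := hrec ((LinearMap.mulLeft A (b ^ N)).lTensor I w)
  have hπ : π ((LinearMap.mulLeft A (b ^ N)).lTensor I w) = 0 := by
    have e : ∀ y, π ((LinearMap.mulLeft A (b ^ N)).lTensor I y) = (LinearMap.mulLeft A (b ^ N)).lTensor V (π y) := by
      intro y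
      induction y using TensorProduct.induction_on with
      | zero => simp
      | tmul i y => simp [π]
      | add a b ha hb => simp only [map_add, ha, hb]
    rw [e, hs s subset_rfl, map_sum]
    refine Finset.sum_eq_zero fun j hj => ?_
    have e2 : ∀ y : K ⊗[A] B, (LinearMap.mulLeft A (b ^ N)).lTensor V (G j y) = G j (((1 : K) ⊗ₜ b) ^ N * y) := by
      intro y
      induction y using TensorProduct.induction_on with
      | zero => simp
      | tmul a c => simp [G, Algebra.TensorProduct.tmul_pow]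
      | add a b ha hb => simp only [map_add, ha, hb, mul_add]
    rw [e2, ← Nat.sub_add_cancel (show Nj j ≤ N from Finset.le_sup hj), pow_add, mul_assoc, hNj, mul_zero, map_zero]
  -- back from the fibre
  have hassoc : (1 : K) ⊗ₜ[A] ((LinearMap.mulLeft A (b ^ N)).lTensor I w) = 0 := by
    refine (TensorProduct.assoc A K I B).symm.injective ?_
    rw [map_zero]
    have e : ∀ y : I ⊗[A] B, (TensorProduct.assoc A K I B).symm ((1 : K) ⊗ₜ y) = π y := by
      intro y
      induction y using TensorProduct.induction_on with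
      | zero => simp
      | tmul i y => simp [π]
      | add a b ha hb => simp only [tmul_add, map_add, ha, hb]
    rw [e, hπ]
  obtain ⟨a, ha, hmem⟩ := exists_smul_mem_of_tmul_eq_zero m _ hassoc
  refine ⟨a, ha, N, ?_⟩
  have hbig : m • (⊤ : Submodule A (I ⊗[A] B)) ≤ Submodule.comap μ (((m * I).map (algebraMap A B)).restrictScalars A) := by
    refine Submodule.smul_le.mpr fun r hr y hy => ?_
    clear hy
    induction y using TensorProduct.induction_on with
    | zero => simp
    | tmul i c =>
      show μ (r • i ⊗ₜ[A] c) ∈ (m * I).map (algebraMap A B)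
      rw [map_smul]
      have : r • μ (i ⊗ₜ[A] c) = c * algebraMap A B (r * i) := by
        simp [μ, Algebra.smul_def, map_mul]
        ring
      rw [this]
      exact Ideal.mul_mem_left _ _ (Ideal.mem_map_of_mem _ (Ideal.mul_mem_mul hr i.2))
    | add y z hy hz => rw [smul_add]; exact add_mem hy hz
  have h3 := hbig hmem
  rw [Submodule.mem_comap, map_smul, hμ, Algebra.smul_def] at h3
  exact h3

/-- Fibrewise criterion with Noetherian source. -/
theorem dom_of_fibre [IsNoetherianRing B]
    (hK : ∀ m : PrimeSpectrum A, DomAt A ψ m.asIdeal.ResidueField) : Dom fun k => (ψ k).toRingHom := by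
  intro b x hx
  suffices h : b ∈ Ideal.radical (LinearMap.ker (LinearMap.toSpanSingleton B B x)) by
    obtain ⟨n, hn⟩ := h
    exact ⟨n, hn⟩
  rw [Ideal.radical_eq_sInf, Submodule.mem_sInf]
  intro (P : Ideal B) ⟨hP, hPprime⟩
  by_contra hbP
  haveI := hPprime
  let m : PrimeSpectrum A := PrimeSpectrum.comap (algebraMap A B) ⟨P, hPprime⟩
  let BP := Localization.AtPrime P
  suffices h0 : algebraMap B BP x = 0 by
    obtain ⟨⟨t, ht⟩, htx⟩ := (IsLocalization.map_eq_zero_iff P.primeCompl BP x).mp h0
    exact ht (hP htx)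
  have hk : ∀ j : ℕ, algebraMap B BP x ∈ ((m.asIdeal ^ j).map (algebraMap A B)).map (algebraMap B BP) := by
    intro j
    induction j with
    | zero => simp [Ideal.map_top]
    | succ j ih =>
      obtain ⟨s, hs, hsx⟩ := (IsLocalization.algebraMap_mem_map_algebraMap_iff P.primeCompl BP _ x).mp ih
      obtain ⟨a, ha, N, hN⟩ := step_pow ψ b m.asIdeal (hK m) _ (s * x) hsx fun k => by
        obtain ⟨n, hn⟩ := hx k
        refine ⟨n, ?_⟩
        rw [mul_left_comm, map_mul]
        exact (congrArg _ hn).trans (mul_zero _)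
      refine (IsLocalization.algebraMap_mem_map_algebraMap_iff P.primeCompl BP _ x).mpr
        ⟨algebraMap A B a * b ^ N * s, ?_, ?_⟩
      · exact P.primeCompl.mul_mem (P.primeCompl.mul_mem ha (P.primeCompl.pow_mem hbP N)) hs
      · rw [pow_succ', mul_assoc, mul_assoc]
        exact hN
  have hle : ∀ j : ℕ, ((m.asIdeal ^ j).map (algebraMap A B)).map (algebraMap B BP) ≤ (IsLocalRing.maximalIdeal BP) ^ j := by
    intro j
    rw [Ideal.map_pow, Ideal.map_pow]
    refine Ideal.pow_right_mono ?_ j
    refine (Ideal.map_mono Ideal.map_comap_le).trans ?_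
    rw [Localization.AtPrime.map_eq_maximalIdeal]
  haveI : IsNoetherianRing BP := IsLocalization.isNoetherianRing P.primeCompl BP inferInstance
  have := Ideal.iInf_pow_eq_bot_of_isLocalRing (IsLocalRing.maximalIdeal BP) (IsLocalRing.maximalIdeal.isMaximal BP).ne_top
  rw [← Ideal.mem_bot, ← this]
  exact Submodule.mem_iInf _ |>.mpr fun j => hle j (hk j)

end

/-- Fibrewise dominance implies dominance after every base change, Noetherian case. -/
theorem domAt_of_fibres {A : Type u} [CommRing A] {B : Type u} [CommRing B] [Algebra A B] [IsNoetherianRing B]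
    {κ : Type*} {C : κ → Type u} [∀ k, CommRing (C k)] [∀ k, Algebra A (C k)] [∀ k, Module.Flat A (C k)]
    (ψ : ∀ k, B →ₐ[A] C k) (hK : ∀ p : PrimeSpectrum A, DomAt A ψ p.asIdeal.ResidueField)
    (A' : Type u) [CommRing A'] [Algebra A A'] : DomAt A ψ A' := by
  refine DomAt.of_fg A' ψ fun D hD => ?_
  haveI : Algebra.FiniteType A D := ⟨(Subalgebra.fg_top D).mpr hD⟩
  haveI : Algebra.FiniteType B (B ⊗[A] D) := inferInstance
  haveI : IsNoetherianRing (B ⊗[A] D) := Algebra.FiniteType.isNoetherianRing B _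
  haveI : IsNoetherianRing ((D : Type u) ⊗[A] B) :=
    isNoetherianRing_of_ringEquiv _ (Algebra.TensorProduct.comm A B D).toRingEquiv
  let ψD : ∀ k, (D : Type u) ⊗[A] B →ₐ[(D : Type u)] (D : Type u) ⊗[A] C k :=
    fun k => Algebra.TensorProduct.map (AlgHom.id D D) (ψ k)
  refine (dom_of_fibre ψD fun m => ?_).of_equiv (RingEquiv.refl _) (fun k => RingHom.id _) fun k y => rfl
  -- fibres over the subalgebra
  let p : PrimeSpectrum A := PrimeSpectrum.comap (algebraMap A D) m
  letI : Algebra p.asIdeal.ResidueField m.asIdeal.ResidueField :=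
    (Ideal.ResidueField.map p.asIdeal m.asIdeal (algebraMap A D) rfl).toAlgebra
  haveI : IsScalarTower A p.asIdeal.ResidueField m.asIdeal.ResidueField :=
    IsScalarTower.of_algebraMap_eq' (AlgHom.comp_algebraMap
      (Ideal.ResidueField.mapₐ p.asIdeal m.asIdeal (Algebra.ofId A (D : Type u)) rfl)).symm
  refine (DomAt.of_field ψ p.asIdeal.ResidueField (hK p) m.asIdeal.ResidueField).of_equiv
    (Algebra.TensorProduct.cancelBaseChange A D D m.asIdeal.ResidueField B).toRingEquiv
    (fun k => (Algebra.TensorProduct.cancelBaseChange A D D m.asIdeal.ResidueField (C k)).toAlgHom.toRingHom) fun k y => ?_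
  induction y using TensorProduct.induction_on with
  | zero => simp
  | add a b ha hb => simp only [map_add, ha, hb]
  | tmul a z =>
    induction z using TensorProduct.induction_on with
    | zero => simp
    | add z w hz hw => simp only [tmul_add, map_add, hz, hw]
    | tmul d c => simp [ψD]

end Groth.Agent.Dominant62
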