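import Groth.Agent.Open62.Strata
import Groth.Agent.Helper62.FlatNil
import Mathlib.RingTheory.Flat.Basic
import Mathlib.Algebra.Module.Torsion.Basic

/-! Schematic dominance is preserved by flat finitely presented base change (EGA IV 11.10.6), algebra form. -/

set_option autoImplicit false
universe u

open TensorProduct

namespace Groth.Agent.Dominant62

section
variable {B : Type u} [CommRing B] (J : Ideal B) {R : Type u} [AddCommGroup R] [Module B R]

/-- Jointly injective maps of modules killed by `J` stay so after tensoring with a module free mod `J`. -/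
theorem eq_zero_of_free_quot [Module.Free (B ⧸ J) ((B ⧸ J) ⊗[B] R)] {κ : Type*} {H : Type u} [AddCommGroup H]
    [Module B H] {T : κ → Type u} [∀ i, AddCommGroup (T i)] [∀ i, Module B (T i)]
    (hH : Module.IsTorsionBySet B H (J : Set B)) (hT : ∀ i, Module.IsTorsionBySet B (T i) (J : Set B))
    (φ : ∀ i, H →ₗ[B] T i) (hφ : ∀ h, (∀ i, φ i h = 0) → h = 0) (z : H ⊗[B] R)
    (hz : ∀ i, (φ i).rTensor R z = 0) : z = 0 := by
  classical
  let D := B ⧸ J
  let ι := Module.Free.ChooseBasisIndex D (D ⊗[B] R)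
  let b : Module.Basis ι D (D ⊗[B] R) := Module.Free.chooseBasis D (D ⊗[B] R)
  letI : Module D H := hH.module
  letI : ∀ i, Module D (T i) := fun i => (hT i).module
  have : IsScalarTower B D H := hH.isScalarTower
  have : ∀ i, IsScalarTower B D (T i) := fun i => (hT i).isScalarTower
  have hφD : ∀ i (d : D) (h : H), φ i (d • h) = d • φ i h := by
    intro i d h
    obtain ⟨d, rfl⟩ := Ideal.Quotient.mk_surjective d
    show φ i (d • h) = d • φ i h
    exact map_smul _ _ _
  choose r hr using fun j => TensorProduct.mk_surjective B R D Ideal.Quotient.mk_surjective (b j)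
  let c (W : Type u) [AddCommGroup W] [Module B W] [Module D W] [IsScalarTower B D W] (j : ι) : W ⊗[B] R →ₗ[B] W :=
    TensorProduct.lift (LinearMap.mk₂ B (fun w x => b.coord j ((1 : D) ⊗ₜ x) • w)
      (fun w w' x => smul_add _ w w') (fun a w x => smul_comm _ a w)
      (fun w x y => by simp only [tmul_add, map_add, add_smul])
      (fun a w x => by
        show b.coord j ((1 : D) ⊗ₜ (a • x)) • w = a • b.coord j ((1 : D) ⊗ₜ x) • w
        rw [tmul_smul, LinearMap.map_smul_of_tower, smul_assoc]))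
  have hnat : ∀ (i : κ) (j : ι) (x : H ⊗[B] R), φ i (c H j x) = c (T i) j ((φ i).rTensor R x) := by
    intro i j x
    induction x using TensorProduct.induction_on with
    | zero => simp
    | add a b ha hb => simp only [map_add, ha, hb]
    | tmul h x => simp [c, hφD]
  have hcz : ∀ j, c H j z = 0 := fun j => hφ _ fun i => by rw [hnat, hz, map_zero]
  -- reconstruction of an element from its coordinates
  let G : D ⊗[B] R →ₗ[B] H →ₗ[B] H ⊗[B] R :=
    TensorProduct.lift (LinearMap.mk₂ B (fun d x =>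
      ((TensorProduct.mk B H R).flip x).comp ((Algebra.lsmul B B H d)))
      (fun d d' x => LinearMap.ext fun h => by simp [add_smul, add_tmul])
      (fun a d x => LinearMap.ext fun h => by simp [smul_assoc, smul_tmul'])
      (fun d x y => LinearMap.ext fun h => by simp [tmul_add])
      (fun a d x => LinearMap.ext fun h => by simp))
  have hrec : ∀ x : H ⊗[B] R, ∃ s : Finset ι, ∀ t, s ⊆ t → x = ∑ j ∈ t, c H j x ⊗ₜ[B] r j := by
    intro x
    induction x using TensorProduct.induction_on with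
    | zero => exact ⟨∅, fun t _ => by simp⟩
    | add a b ha hb =>
      obtain ⟨s, hs⟩ := ha
      obtain ⟨s', hs'⟩ := hb
      refine ⟨s ∪ s', fun t ht => ?_⟩
      simp only [map_add, add_tmul, Finset.sum_add_distrib]
      rw [← hs t (Finset.union_subset_left ht), ← hs' t (Finset.union_subset_right ht)]
    | tmul h x =>
      refine ⟨(b.repr ((1 : D) ⊗ₜ x)).support, fun t ht => ?_⟩
      have h1 : ((1 : D) ⊗ₜ[B] x) = ∑ j ∈ t, b.coord j ((1 : D) ⊗ₜ x) • b j := by
        conv_lhs => rw [← b.linearCombination_repr ((1 : D) ⊗ₜ x)]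
        rw [Finsupp.linearCombination_apply, Finsupp.sum_of_support_subset _ ht (fun j a => a • b j) (fun j _ => zero_smul _ _)]
        rfl
      have h2 := congrArg (fun y => G y h) h1
      simp only [map_sum, LinearMap.sum_apply] at h2
      have hG : ∀ (d : D) (j : ι), G (d • b j) h = (d • h) ⊗ₜ[B] r j := fun d j => by
        rw [← hr j, TensorProduct.mk_apply, TensorProduct.smul_tmul', smul_eq_mul, mul_one]
        simp [G]
      simp only [hG] at h2
      simpa [G, c] using h2
  obtain ⟨s, hs⟩ := hrec z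
  rw [hs s subset_rfl]
  exact Finset.sum_eq_zero fun j _ => by rw [hcz, zero_tmul]

end

/-- The step on a stratum. -/
theorem finish {B B' : Type u} [CommRing B] [CommRing B'] [Algebra B B'] {κ : Type*} {C : κ → Type u} [∀ i, AddCommGroup (C i)]
    [∀ i, Module B (C i)] {R : Type u} [CommRing R] [Algebra B R] [Module.Flat B R] (f : B) [IsLocalization.Away f B'] (z : R)
    (φ : ∀ i, B →ₗ[B] C i)
    (hφ : ∀ b x : B, (∀ i, ∃ n : ℕ, b ^ n • φ i x = 0) → ∃ n : ℕ, b ^ n * x = 0)
    (hz : ∀ i, φ i 1 ⊗ₜ[B] z = 0) (J J₀ : Ideal B') (hJle : J ≤ J₀) (hJ₀ : J₀ ≤ J.radical) (hfg : J₀.FG)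
    {k : ℕ} (g : Fin k → B') (hg : J = Ideal.span (Set.range g))
    (hfree : Module.Free (B' ⧸ J₀) ((B' ⧸ J₀) ⊗[B] R))
    (hkill : ∀ j, g j • ((1 : B') ⊗ₜ[B] z) = 0) :
    (1 : B') ⊗ₜ[B] z = 0 := by
  classical
  let R' := B' ⊗[B] R
  let z' : R' := (1 : B') ⊗ₜ z
  have : Module.Flat B' R' := inferInstance
  -- freeness modulo `J`
  let D := B' ⧸ J
  let Jb : Ideal D := J₀.map (Ideal.Quotient.mk J)
  have hnil : IsNilpotent Jb := by
    obtain ⟨N, hN⟩ := Ideal.exists_pow_le_of_le_radical_of_fg hJ₀ hfg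
    refine ⟨N, ?_⟩
    rw [← Ideal.map_pow]
    refine le_bot_iff.mp ((Ideal.map_mono hN).trans ?_)
    rw [Ideal.map_quotient_self]
  have : Module.Free D (D ⊗[B'] R') := by
    letI : Algebra (B' ⧸ J₀) (D ⧸ Jb) :=
      RingHom.toAlgebra (R := B' ⧸ J₀) (S := D ⧸ Jb) (Ideal.quotientMap Jb (Ideal.Quotient.mk J) Ideal.le_comap_map)
    have : IsScalarTower B (B' ⧸ J₀) (D ⧸ Jb) := IsScalarTower.of_algebraMap_eq (R := B) (S := B' ⧸ J₀) (A := D ⧸ Jb)
      fun _ => rfl
    have hfreeJ : Module.Free (D ⧸ Jb) ((D ⧸ Jb) ⊗[D] (D ⊗[B'] R')) :=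
      Module.Free.of_equiv ((AlgebraTensorModule.cancelBaseChange B (B' ⧸ J₀) (D ⧸ Jb) (D ⧸ Jb) R) ≪≫ₗ
        (AlgebraTensorModule.cancelBaseChange B B' (D ⧸ Jb) (D ⧸ Jb) R).symm ≪≫ₗ
        (AlgebraTensorModule.cancelBaseChange B' D (D ⧸ Jb) (D ⧸ Jb) R').symm)
    exact FlatNil62.free_of_flat_family (J := Jb) hnil (fun _ : PUnit.{1} => D) (fun a ha => by simpa using ha ⟨⟩)
      (D ⊗[B'] R') (fun _ => inferInstance) hfreeJ
  -- the annihilator of `J`
  let H := Submodule.torsionBySet B' B' (J : Set B')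
  let Φ : B' →ₗ[B'] (Fin k → B') := LinearMap.pi fun j => LinearMap.lsmul B' B' (g j)
  have hex : Function.Exact H.subtype Φ := fun x => by
    simp only [Submodule.coe_subtype, Subtype.range_coe_subtype, SetLike.setOf_mem_eq]
    constructor
    · intro hx
      refine (Submodule.mem_torsionBySet_iff _ x).mpr fun ⟨a, ha⟩ => ?_
      have : J ≤ LinearMap.ker (LinearMap.toSpanSingleton B' B' x) := by
        rw [hg, Ideal.span_le]
        rintro _ ⟨j, rfl⟩
        exact congrFun hx j
      exact this ha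
    · intro hx
      funext j
      exact (Submodule.mem_torsionBySet_iff _ x).mp hx ⟨g j, hg ▸ Ideal.subset_span ⟨j, rfl⟩⟩
  have hΦ : Φ.rTensor R' ((1 : B') ⊗ₜ[B'] z') = 0 := by
    have : Φ 1 = ∑ j, g j • (Pi.single j 1 : Fin k → B') := by
      funext j
      simp [Φ, Pi.single_apply, Finset.sum_apply]
    rw [LinearMap.rTensor_tmul, this, sum_tmul]
    exact Finset.sum_eq_zero fun j _ => by rw [smul_tmul, hkill, tmul_zero]
  obtain ⟨w, hw⟩ := (Module.Flat.rTensor_exact R' hex _).mp hΦ
  -- the test modules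
  let C' : κ → Type u := fun i => B' ⊗[B] C i
  let φ' : ∀ i, B' →ₗ[B'] C' i := fun i => LinearMap.toSpanSingleton B' (C' i) ((1 : B') ⊗ₜ φ i 1)
  let T : ∀ i, Submodule B' (C' i) := fun i => Submodule.torsionBySet B' (C' i) (J : Set B')
  have hmem : ∀ i, ∀ h ∈ H, φ' i h ∈ T i := fun i h hh => (Submodule.mem_torsionBySet_iff _ _).mpr fun a => by
    rw [← map_smul, (Submodule.mem_torsionBySet_iff _ h).mp hh a, map_zero]
  let ψ : ∀ i, H →ₗ[B'] T i := fun i => (φ' i).restrict (hmem i)
  have hinj : ∀ h : H, (∀ i, ψ i h = 0) → h = 0 := by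
    intro h hh
    obtain ⟨x, s, hxs⟩ := IsLocalization.exists_mk'_eq (Submonoid.powers f) (h : B')
    have h0 : ∀ i, ∃ m : ℕ, f ^ m • φ i x = 0 := fun i => by
      have h1 : φ' i (h : B') = 0 := congrArg Subtype.val (hh i)
      have h2 : (1 : B') ⊗ₜ[B] φ i x = 0 := by
        have h3 : φ i x = x • φ i 1 := by rw [← map_smul, smul_eq_mul, mul_one]
        have h4 : algebraMap B B' x = algebraMap B B' s * (h : B') := by
          rw [← hxs, IsLocalization.mk'_spec']
        rw [h3, tmul_smul, ← algebraMap_smul B' x, h4, mul_smul]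
        show algebraMap B B' s • φ' i (h : B') = 0
        rw [h1, smul_zero]
      obtain ⟨t, ht⟩ := (IsLocalizedModule.eq_zero_iff (Submonoid.powers f) (TensorProduct.mk B B' (C i) 1)).mp h2
      obtain ⟨m, hm⟩ := t.2
      exact ⟨m, by rw [Submonoid.smul_def, ← hm] at ht; exact ht⟩
    obtain ⟨m, hm⟩ := hφ f x h0
    refine Subtype.ext ?_
    show (h : B') = 0
    rw [← hxs, IsLocalization.mk'_eq_zero_iff]
    exact ⟨⟨f ^ m, m, rfl⟩, hm⟩
  have hw0 : w = 0 := by
    refine eq_zero_of_free_quot (κ := κ) (T := fun i => ↥(T i)) J (Submodule.torsionBySet_isTorsionBySet _)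
      (fun i => Submodule.torsionBySet_isTorsionBySet _) ψ hinj w fun i => ?_
    refine Module.Flat.rTensor_preserves_injective_linearMap (M := R') (T i).subtype Subtype.val_injective ?_
    rw [map_zero, ← LinearMap.rTensor_comp_apply]
    have : (T i).subtype ∘ₗ ψ i = φ' i ∘ₗ H.subtype := rfl
    rw [this, LinearMap.rTensor_comp_apply, hw, LinearMap.rTensor_tmul]
    show (φ' i 1) ⊗ₜ[B'] z' = 0
    have e := congrArg (AlgebraTensorModule.cancelBaseChange B B' B' (C' i) R).symm
      (congrArg ((TensorProduct.mk B B' (C i) 1).rTensor R) (hz i))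
    rw [map_zero, map_zero, LinearMap.rTensor_tmul, TensorProduct.mk_apply,
      AlgebraTensorModule.cancelBaseChange_symm_tmul] at e
    show ((1 : B') • ((1 : B') ⊗ₜ[B] φ i 1)) ⊗ₜ[B'] z' = 0
    rw [one_smul]
    exact e
  rw [hw0, map_zero] at hw
  have := congrArg (TensorProduct.lid B' R') hw
  simpa using this.symm

/-- A jointly injective family remains so after a flat base change of finite presentation. -/
theorem eq_zero_of_flat {B : Type u} [CommRing B] {κ : Type*} {C : κ → Type u} [∀ i, AddCommGroup (C i)]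
    [∀ i, Module B (C i)] (φ : ∀ i, B →ₗ[B] C i)
    (hφ : ∀ b x : B, (∀ i, ∃ n : ℕ, b ^ n • φ i x = 0) → ∃ n : ℕ, b ^ n * x = 0)
    {R : Type u} [CommRing R] [Algebra B R] [Algebra.FinitePresentation B R] [Module.Flat B R]
    (z : R) (hz : ∀ i, φ i 1 ⊗ₜ[B] z = 0) : z = 0 := by
  classical
  obtain ⟨l, hl, hfree⟩ := Open62.exists_free_strata (A := B) (B := R) R
  suffices ∀ i ≤ l.length, ∃ n : ℕ, ∀ j (hj : j < i) (hj' : j < l.length), l[j] ^ n • z = 0 by
    obtain ⟨n, hn⟩ := this l.length le_rfl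
    have hle : Ideal.span ((· ^ n) '' {a | a ∈ l}) ≤ LinearMap.ker (LinearMap.toSpanSingleton B R z) := by
      rw [Ideal.span_le]
      rintro _ ⟨a, ha, rfl⟩
      obtain ⟨j, hj, rfl⟩ := List.getElem_of_mem ha
      exact hn j hj hj
    rw [Ideal.span_pow_eq_top _ hl n] at hle
    simpa using hle (Submodule.mem_top (x := (1 : B)))
  intro i
  induction i with
  | zero => exact fun _ => ⟨0, fun j hj => absurd hj (Nat.not_lt_zero j)⟩
  | succ i ih =>
    intro hi
    obtain ⟨n, hn⟩ := ih (by omega)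
    have hil : i < l.length := hi
    let f := l[i]
    suffices ∃ m : ℕ, f ^ m • z = 0 by
      obtain ⟨m, hm⟩ := this
      refine ⟨n + m, fun j hj hj' => ?_⟩
      rcases Nat.lt_succ_iff_lt_or_eq.mp hj with h | rfl
      · rw [add_comm, pow_add, mul_smul, hn j h hj', smul_zero]
      · rw [pow_add, mul_smul, hm, smul_zero]
    let B' := Localization.Away f
    let R' := B' ⊗[B] R
    let z' : R' := (1 : B') ⊗ₜ z
    suffices hz' : z' = 0 by
      obtain ⟨t, ht⟩ := (IsLocalizedModule.eq_zero_iff (Submonoid.powers f) (TensorProduct.mk B B' R 1)).mp hz'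
      obtain ⟨m, hm⟩ := t.2
      exact ⟨m, by rw [Submonoid.smul_def, ← hm] at ht; exact ht⟩
    let g : Fin i → B' := fun j => algebraMap B B' (l[(j : ℕ)]'(by omega) ^ n)
    let J : Ideal B' := Ideal.span (Set.range g)
    let J₀ : Ideal B' := (Ideal.span {a | a ∈ l.take i}).map (algebraMap B B')
    have hJ₀ : J₀ ≤ J.radical := by
      rw [Ideal.map_le_iff_le_comap, Ideal.span_le]
      intro a ha
      obtain ⟨j, hj, rfl⟩ := List.getElem_of_mem ha
      rw [List.length_take] at hj
      refine ⟨n, ?_⟩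
      rw [List.getElem_take, ← map_pow]
      exact Ideal.subset_span ⟨⟨j, by omega⟩, rfl⟩
    have hJle : J ≤ J₀ ∨ n = 0 := by
      rcases Nat.eq_zero_or_pos n with h | h
      · exact Or.inr h
      refine Or.inl (Ideal.span_le.mpr ?_)
      rintro _ ⟨j, rfl⟩
      refine Ideal.mem_map_of_mem _ (Ideal.pow_mem_of_mem _ (Ideal.subset_span ?_) _ h)
      exact List.mem_take_iff_getElem.mpr ⟨j, by omega, rfl⟩
    have hfgJ₀ : J₀.FG := Ideal.FG.map (Submodule.fg_span (List.finite_toSet _)) _
    have hkill : ∀ j : Fin i, g j • z' = 0 := fun j => by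
      show g j • ((1 : B') ⊗ₜ[B] z) = 0
      rw [TensorProduct.smul_tmul', smul_eq_mul, mul_one]
      show algebraMap B B' _ ⊗ₜ[B] z = 0
      rw [Algebra.algebraMap_eq_smul_one, smul_tmul, hn j j.2 (by omega), tmul_zero]
    rcases hJle with hJle | hn0
    swap
    · by_cases h0 : i = 0
      · subst hn0
        subst h0
        -- no constraint: `J = ⊥`
        exact (finish f z φ hφ hz J J₀ (Ideal.span_le.mpr (by rintro _ ⟨j, -⟩; exact j.elim0)) hJ₀ hfgJ₀ g rfl
          (hfree 0 hil) hkill)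
      · have := hn 0 (by omega) (by omega)
        rw [hn0, pow_zero, one_smul] at this
        simp [z', this]
    exact finish f z φ hφ hz J J₀ hJle hJ₀ hfgJ₀ g rfl (hfree i hil) hkill

end Groth.Agent.Dominant62
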